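import Groth.Prelude.Def_CAlgX
import Groth.Agent.L20.FibreFT
import Mathlib.RingTheory.Localization.Integer
import Mathlib.RingTheory.Localization.BaseChange
import Mathlib.Algebra.Module.FinitePresentation
import Mathlib.RingTheory.FinitePresentation

/-!
# Models of algebras and modules essentially of finite presentation
-/

open TensorProduct MvPolynomial

namespace Groth.L02.EssFP

universe u

/-- A map from a finitely presented algebra into a localization factors through `C[1/f]`. -/
theorem exists_algHom_away {R C : Type u} [CommRing R] [CommRing C] [Algebra R C] (S : Submonoid C)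
    (Cq : Type u) [CommRing Cq] [Algebra C Cq] [Algebra R Cq] [IsScalarTower R C Cq] [IsLocalization S Cq]
    {T : Type u} [CommRing T] [Algebra R T] [Algebra.FinitePresentation R T] (χ : T →ₐ[R] Cq) :
    ∃ (f : C) (hf : f ∈ S) (ρ : T →ₐ[R] Localization.Away f), ∀ x : T,
      IsLocalization.liftAlgHom (M := Submonoid.powers f) (f := Algebra.ofId C Cq)
        (fun y => IsLocalization.map_units Cq ⟨(y : C), Submonoid.powers_le.mpr hf y.2⟩) (ρ x) = χ x := by
  classical
  obtain ⟨m, π, hπ, hker⟩ := Algebra.FinitePresentation.out (R := R) (A := T)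
  choose x hx using fun k : Fin m => IsLocalization.surj S (χ (π (X k)))
  let s₀ : C := ∏ k, ((x k).2 : C)
  have hs₀ : s₀ ∈ S := prod_mem fun k _ => (x k).2.2
  let L₀ := Localization.Away s₀
  have hu : ∀ k, IsUnit (algebraMap C L₀ ((x k).2 : C)) := fun k =>
    isUnit_of_dvd_unit (map_dvd _ (Finset.dvd_prod_of_mem (fun k => ((x k).2 : C)) (Finset.mem_univ k)))
      (IsLocalization.Away.algebraMap_isUnit (S := L₀) s₀)
  let v : Fin m → L₀ := fun k => algebraMap C L₀ (x k).1 * ↑(hu k).unit⁻¹
  let χ₀ : L₀ →ₐ[C] Cq := IsLocalization.liftAlgHom (M := Submonoid.powers s₀) (f := Algebra.ofId C Cq)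
    (fun y => IsLocalization.map_units Cq ⟨(y : C), Submonoid.powers_le.mpr hs₀ y.2⟩)
  have hχ₀ : ∀ p : MvPolynomial (Fin m) R, χ₀ (aeval v p) = χ (π p) := by
    intro p
    show (χ₀.restrictScalars R).comp (aeval v) p = χ.comp π p
    congr 1
    refine MvPolynomial.algHom_ext fun k => ?_
    simp only [AlgHom.comp_apply, aeval_X, AlgHom.restrictScalars_apply]
    refine (IsLocalization.map_units Cq (x k).2).mul_left_injective ?_
    show χ₀ (v k) * algebraMap C Cq ((x k).2 : C) = χ (π (X k)) * algebraMap C Cq ((x k).2 : C)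
    rw [hx, ← χ₀.commutes ((x k).2 : C), ← map_mul, ← χ₀.commutes]
    simp only [v, mul_assoc, IsUnit.val_inv_mul, mul_one]
  obtain ⟨gs, hgs⟩ := hker
  have hdie : ∀ p ∈ gs, ∃ t ∈ S, algebraMap C L₀ t * aeval v p = 0 := by
    intro p hp
    obtain ⟨⟨a, ⟨_, N, rfl⟩⟩, ha⟩ := IsLocalization.surj (Submonoid.powers s₀) (aeval v p)
    have h0 : algebraMap C Cq a = 0 := by
      have := congrArg χ₀ ha
      rw [map_mul, hχ₀, show π p = 0 from (hgs ▸ Ideal.subset_span hp : p ∈ RingHom.ker π.toRingHom),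
        map_zero, zero_mul, AlgHom.commutes] at this
      exact this.symm
    obtain ⟨⟨t, ht⟩, hta⟩ := (IsLocalization.map_eq_zero_iff S Cq a).mp h0
    refine ⟨t, ht, ((IsLocalization.map_units L₀ (⟨_, N, rfl⟩ : Submonoid.powers s₀)).mul_left_eq_zero).mp ?_⟩
    rw [mul_assoc, ha, ← map_mul, show t * a = 0 from hta, map_zero]
  choose! t ht htz using hdie
  let f := s₀ * ∏ p ∈ gs, t p
  have hf : f ∈ S := mul_mem hs₀ (prod_mem fun p hp => ht p hp)
  let ι₀ : L₀ →ₐ[C] Localization.Away f :=
    IsLocalization.liftAlgHom (M := Submonoid.powers s₀) (f := Algebra.ofId C _) (by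
      rintro ⟨_, N, rfl⟩
      simp only [Algebra.ofId_apply, map_pow]
      exact (isUnit_of_dvd_unit (map_dvd _ (dvd_mul_right s₀ _))
        (IsLocalization.Away.algebraMap_isUnit f)).pow N)
  let χf : Localization.Away f →ₐ[C] Cq := IsLocalization.liftAlgHom (M := Submonoid.powers f)
    (f := Algebra.ofId C Cq)
    (fun y => IsLocalization.map_units Cq ⟨(y : C), Submonoid.powers_le.mpr hf y.2⟩)
  have hcomp : χf.comp ι₀ = χ₀ := by
    refine AlgHom.coe_ringHom_injective (IsLocalization.ringHom_ext (Submonoid.powers s₀) ?_)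
    exact RingHom.ext fun c => by simp
  refine ⟨f, hf, AlgHom.liftOfSurjective π hπ ((ι₀.restrictScalars R).comp (aeval v)) ?_, fun y => ?_⟩
  · rw [← hgs, Ideal.span_le]
    intro p hp
    show ι₀ (aeval v p) = 0
    have hu' : IsUnit (algebraMap C (Localization.Away f) (t p)) :=
      isUnit_of_dvd_unit (map_dvd _ ((Finset.dvd_prod_of_mem _ hp).trans (dvd_mul_left _ _)))
        (IsLocalization.Away.algebraMap_isUnit f)
    have := congrArg ι₀ (htz p hp)
    rw [map_mul, AlgHom.commutes, map_zero] at this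
    exact hu'.mul_right_eq_zero.mp this
  · obtain ⟨p, rfl⟩ := hπ y
    rw [AlgHom.liftOfSurjective_apply]
    show χf (ι₀ (aeval v p)) = χ (π p)
    rw [← hχ₀, ← hcomp]
    rfl

/-- A finitely presented module over a localization comes from a finitely presented module. -/
theorem exists_module_model {U : Type u} [CommRing U] (T : Submonoid U) (S' : Type u) [CommRing S']
    [Algebra U S'] [IsLocalization T S'] (M : Type u) [AddCommGroup M] [Module S' M] [Module U M]
    [IsScalarTower U S' M] [Module.FinitePresentation S' M] :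
    ∃ (M₀ : Type u) (_ : AddCommGroup M₀) (_ : Module U M₀) (ℓ : M₀ →ₗ[U] M),
      Module.FinitePresentation U M₀ ∧ IsLocalizedModule T ℓ := by
  classical
  obtain ⟨n, K, e, hK⟩ := Module.FinitePresentation.exists_fin S' M
  obtain ⟨G, rfl⟩ := hK
  obtain ⟨⟨d, hd⟩, hdm⟩ := IsLocalization.exist_integer_multiples_of_finite T
    (fun p : G × Fin n => (p.1 : Fin n → S') p.2)
  choose w hw using hdm
  let N₀ : Submodule U (Fin n → U) := Submodule.span U (Set.range fun g : G => fun i => w (g, i))
  let j : (Fin n → U) →ₗ[U] (Fin n → S') := (Algebra.linearMap U S').compLeft (Fin n)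
  let q : (Fin n → S') →ₗ[U] M :=
    (e.symm.toLinearMap.restrictScalars U) ∘ₗ
      ((Submodule.span S' (G : Set (Fin n → S'))).mkQ.restrictScalars U)
  have hle : N₀ ≤ LinearMap.ker (q ∘ₗ j) := by
    rw [Submodule.span_le]
    rintro _ ⟨g, rfl⟩
    show e.symm (Submodule.Quotient.mk (j fun i => w (g, i))) = 0
    rw [show j (fun i => w (g, i)) = algebraMap U S' d • (g : Fin n → S') by
      ext i
      rw [algebraMap_smul]
      exact hw (g, i)]
    rw [(Submodule.Quotient.mk_eq_zero _).mpr (Submodule.smul_mem _ _ (Submodule.subset_span g.2)),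
      map_zero]
  let ℓ : ((Fin n → U) ⧸ N₀) →ₗ[U] M := N₀.liftQ (q ∘ₗ j) hle
  have hj : ∀ v : Fin n → S', ∃ a : Fin n → U, ∃ s ∈ T, algebraMap U S' s • v = j a := by
    intro v
    obtain ⟨⟨s, hs⟩, h⟩ := IsLocalization.exist_integer_multiples_of_finite T v
    choose a ha using h
    refine ⟨a, s, hs, funext fun i => ?_⟩
    show algebraMap U S' s • v i = algebraMap U S' (a i)
    rw [ha i, algebraMap_smul]
  refine ⟨_, inferInstance, inferInstance, ℓ, Module.finitePresentation_of_surjective N₀.mkQ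
    (Submodule.mkQ_surjective _) (by
      rw [Submodule.ker_mkQ]; exact Submodule.fg_span (Set.finite_range _)), ⟨fun t => ?_, fun m => ?_, ?_⟩⟩
  · rw [Module.End.isUnit_iff]
    have hu := IsLocalization.map_units S' t
    refine ⟨fun a b h => ?_, fun b => ⟨(↑hu.unit⁻¹ : S') • b, ?_⟩⟩
    · simp only [Module.algebraMap_end_apply] at h
      rw [← algebraMap_smul S' (t : U) a, ← algebraMap_smul S' (t : U) b] at h
      exact (IsUnit.smul_left_cancel hu).mp h
    · rw [Module.algebraMap_end_apply, ← algebraMap_smul S' (t : U), smul_smul, IsUnit.mul_val_inv,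
        one_smul]
  · obtain ⟨v, hv⟩ := Submodule.Quotient.mk_surjective _ (e m)
    obtain ⟨a, s, hs, hsa⟩ := hj v
    refine ⟨⟨Submodule.Quotient.mk a, ⟨s, hs⟩⟩, ?_⟩
    show s • m = q (j a)
    rw [← hsa]
    show s • m = e.symm (Submodule.Quotient.mk (algebraMap U S' s • v))
    rw [Submodule.Quotient.mk_smul, hv, map_smul, LinearEquiv.symm_apply_apply, algebraMap_smul]
  · intro x y hxy
    obtain ⟨a, rfl⟩ := Submodule.Quotient.mk_surjective _ x
    obtain ⟨b, rfl⟩ := Submodule.Quotient.mk_surjective _ y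
    have h0 : j (a - b) ∈ Submodule.span S' (G : Set (Fin n → S')) := by
      rw [← Submodule.Quotient.mk_eq_zero]
      apply e.symm.injective
      rw [map_zero]
      show (q ∘ₗ j) (a - b) = 0
      rw [map_sub, sub_eq_zero]
      exact hxy
    obtain ⟨c, hc⟩ : ∃ c : G → S', ∑ g, c g • (g : Fin n → S') = j (a - b) :=
      Submodule.mem_span_range_iff_exists_fun S' |>.mp (by simpa using h0)
    obtain ⟨⟨s, hs⟩, hsm⟩ := IsLocalization.exist_integer_multiples_of_finite T c
    choose c₀ hc₀ using hsm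
    let W : G → Fin n → U := fun g i => w (g, i)
    have h1 : j ((s * d) • (a - b) - ∑ g, c₀ g • W g) = 0 := by
      rw [map_sub, map_smul, map_sum, ← hc, Finset.smul_sum, sub_eq_zero]
      refine Finset.sum_congr rfl fun g _ => funext fun i => ?_
      rw [map_smul]
      show (s * d) • (c g * (g : Fin n → S') i) = c₀ g • algebraMap U S' (w (g, i))
      rw [Algebra.smul_def, Algebra.smul_def, map_mul, hw, hc₀, Algebra.smul_def, Algebra.smul_def]
      ring
    have h2 : ∀ i, ∃ t : T, (t : U) * (((s * d) • (a - b) - ∑ g, c₀ g • W g) i) = 0 :=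
      fun i => (IsLocalization.map_eq_zero_iff T S' _).mp (congrFun h1 i)
    choose t ht using h2
    refine ⟨(∏ i, t i) * ⟨s * d, mul_mem hs hd⟩, ?_⟩
    show ((↑(∏ i, t i) : U) * (s * d)) • Submodule.Quotient.mk (p := N₀) a =
      ((↑(∏ i, t i) : U) * (s * d)) • Submodule.Quotient.mk (p := N₀) b
    rw [← Submodule.Quotient.mk_smul, ← Submodule.Quotient.mk_smul, Submodule.Quotient.eq, ← smul_sub]
    have h3 : (↑(∏ i, t i) : U) • ((s * d) • (a - b) - ∑ g, c₀ g • W g) = 0 := by
      ext i
      rw [Pi.smul_apply, smul_eq_mul, Submonoid.coe_finset_prod, ← Finset.mul_prod_erase _ _ (Finset.mem_univ i),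
        mul_comm (t i : U), mul_assoc, ht i, mul_zero]
      rfl
    rw [smul_sub, sub_eq_zero, smul_smul] at h3
    rw [h3]
    exact Submodule.smul_mem _ _ (Submodule.sum_mem _ fun g _ =>
      Submodule.smul_mem _ _ (Submodule.subset_span ⟨g, rfl⟩))

/-- Tensoring with an algebra where the denominators are units does not see a localization. -/
theorem lTensor_bijective {U : Type u} [CommRing U] (T : Submonoid U) {M₀ M : Type u}
    [AddCommGroup M₀] [Module U M₀] [AddCommGroup M] [Module U M] (ℓ : M₀ →ₗ[U] M)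
    [IsLocalizedModule T ℓ] (C : Type u) [CommRing C] [Algebra U C]
    (hC : ∀ t : T, IsUnit (algebraMap U C t)) :
    Function.Bijective (AlgebraTensorModule.lTensor C C ℓ) := by
  have hunit : ∀ t : T, IsUnit ((algebraMap U (Module.End U (C ⊗[U] M₀))) t) := fun t => by
    rw [Module.End.isUnit_iff]
    refine ⟨fun a b h => ?_, fun b => ⟨(↑(hC t).unit⁻¹ : C) • b, ?_⟩⟩
    · simp only [Module.algebraMap_end_apply] at h
      rw [← algebraMap_smul C (t : U) a, ← algebraMap_smul C (t : U) b] at h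
      exact (IsUnit.smul_left_cancel (hC t)).mp h
    · rw [Module.algebraMap_end_apply, ← algebraMap_smul C (t : U), smul_smul, IsUnit.mul_val_inv,
        one_smul]
  let g : M₀ →ₗ[U] C ⊗[U] M₀ := TensorProduct.mk U C M₀ 1
  let l : M →ₗ[U] C ⊗[U] M₀ := IsLocalizedModule.lift T ℓ g hunit
  have hl : ∀ x, l (ℓ x) = (1 : C) ⊗ₜ x := fun x => IsLocalizedModule.lift_apply T ℓ g hunit x
  let F := AlgebraTensorModule.lTensor C C ℓ
  let G : C ⊗[U] M →ₗ[C] C ⊗[U] M₀ := l.liftBaseChange C
  have hGF : G ∘ₗ F = LinearMap.id := by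
    refine AlgebraTensorModule.ext fun c x => ?_
    show G (c ⊗ₜ ℓ x) = c ⊗ₜ x
    rw [LinearMap.liftBaseChange_tmul, hl, TensorProduct.smul_tmul', smul_eq_mul, mul_one]
  have hFl : (F.restrictScalars U) ∘ₗ l = TensorProduct.mk U C M 1 := by
    refine IsLocalizedModule.ext T ℓ ?_ (LinearMap.ext fun x => ?_)
    · intro t
      rw [Module.End.isUnit_iff]
      refine ⟨fun a b h => ?_, fun b => ⟨(↑(hC t).unit⁻¹ : C) • b, ?_⟩⟩
      · simp only [Module.algebraMap_end_apply] at h
        rw [← algebraMap_smul C (t : U) a, ← algebraMap_smul C (t : U) b] at h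
        exact (IsUnit.smul_left_cancel (hC t)).mp h
      · rw [Module.algebraMap_end_apply, ← algebraMap_smul C (t : U), smul_smul, IsUnit.mul_val_inv,
          one_smul]
    · show F (l (ℓ x)) = (1 : C) ⊗ₜ ℓ x
      rw [hl]
      rfl
  have hFG : F ∘ₗ G = LinearMap.id := by
    refine AlgebraTensorModule.ext fun c m => ?_
    show F (G (c ⊗ₜ m)) = c ⊗ₜ m
    rw [LinearMap.liftBaseChange_tmul, map_smul]
    rw [show F (l m) = (1 : C) ⊗ₜ m from LinearMap.congr_fun hFl m, TensorProduct.smul_tmul',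
      smul_eq_mul, mul_one]
  exact ⟨Function.LeftInverse.injective (g := G) (LinearMap.congr_fun hGF),
    Function.RightInverse.surjective (g := G) (LinearMap.congr_fun hFG)⟩


/-- A local ring which is a localization is the localization at the prime under its maximal ideal. -/
theorem atPrime_of_isLocalRing {T₀ S : Type u} [CommRing T₀] [CommRing S] [IsLocalRing S] [Algebra T₀ S]
    (M : Submonoid T₀) [IsLocalization M S] :
    IsLocalization.AtPrime S ((IsLocalRing.maximalIdeal S).comap (algebraMap T₀ S)) := by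
  have hM : M ≤ ((IsLocalRing.maximalIdeal S).comap (algebraMap T₀ S)).primeCompl := fun t ht h =>
    h (IsLocalization.map_units S ⟨t, ht⟩)
  refine ⟨⟨fun y => ?_, fun z => ?_, fun {x y} h => ?_⟩⟩
  · by_contra h
    exact y.2 h
  · obtain ⟨⟨a, t⟩, h⟩ := IsLocalization.surj M z
    exact ⟨⟨a, ⟨t, hM t.2⟩⟩, h⟩
  · obtain ⟨c, hc⟩ := IsLocalization.exists_of_eq (M := M) h
    exact ⟨⟨c, hM c.2⟩, hc⟩

/-- Restriction to a surjective image of `S₀` is reduction. -/
theorem liftBaseChange_mkQ_bijective {S₀ S M B : Type u} [CommRing S₀] [CommRing S] [Algebra S₀ S]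
    [CommRing B] [Algebra S₀ B] (hsurj : Function.Surjective (algebraMap S₀ B)) (I : Ideal S)
    (hI : I ≤ (RingHom.ker (algebraMap S₀ B)).map (algebraMap S₀ S))
    [AddCommGroup M] [Module S M] [Module S₀ M] [IsScalarTower S₀ S M]
    [Module B (M ⧸ I • (⊤ : Submodule S M))] [IsScalarTower S₀ B (M ⧸ I • (⊤ : Submodule S M))] :
    Function.Bijective (((I • (⊤ : Submodule S M)).mkQ.restrictScalars S₀).liftBaseChange B) := by
  set F := ((I • (⊤ : Submodule S M)).mkQ.restrictScalars S₀).liftBaseChange B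
  have hone : ∀ z : B ⊗[S₀] M, ∃ x, z = (1 : B) ⊗ₜ x := by
    intro z
    induction z using TensorProduct.induction_on with
    | zero => exact ⟨0, by simp⟩
    | tmul b m =>
      obtain ⟨s, rfl⟩ := hsurj b
      exact ⟨s • m, by rw [TensorProduct.tmul_smul, TensorProduct.smul_tmul', Algebra.smul_def, mul_one]⟩
    | add a b ha hb =>
      obtain ⟨x, rfl⟩ := ha
      obtain ⟨y, rfl⟩ := hb
      exact ⟨x + y, (TensorProduct.tmul_add _ _ _).symm⟩
  have hker : ∀ x ∈ I • (⊤ : Submodule S M), (1 : B) ⊗ₜ[S₀] x = 0 := by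
    intro x hx
    refine Submodule.smul_induction_on hx (fun i hi m _ => ?_) (fun a b ha hb => ?_)
    · have : ∀ m : M, (1 : B) ⊗ₜ[S₀] (i • m) = 0 := by
        have hi' := hI hi
        clear hi
        induction hi' using Submodule.span_induction with
        | mem i hi =>
          obtain ⟨j, hj, rfl⟩ := hi
          intro m
          rw [algebraMap_smul, TensorProduct.tmul_smul, TensorProduct.smul_tmul', Algebra.smul_def, mul_one,
            show algebraMap S₀ B j = 0 from hj, TensorProduct.zero_tmul]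
        | zero => simp
        | add a b _ _ ha hb => intro m; rw [add_smul, TensorProduct.tmul_add, ha, hb, add_zero]
        | smul c a _ ha => intro m; rw [smul_eq_mul, mul_comm, mul_smul, ha]
      exact this m
    · rw [TensorProduct.tmul_add, ha, hb, add_zero]
  refine ⟨(injective_iff_map_eq_zero F).mpr fun z hz => ?_, fun z => ?_⟩
  · obtain ⟨x, rfl⟩ := hone z
    rw [LinearMap.liftBaseChange_tmul, one_smul] at hz
    exact hker x ((Submodule.Quotient.mk_eq_zero _).mp hz)
  · obtain ⟨x, rfl⟩ := Submodule.Quotient.mk_surjective _ z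
    exact ⟨1 ⊗ₜ x, by rw [LinearMap.liftBaseChange_tmul, one_smul]; rfl⟩

/-- Flatness of the fibre module over the fibre of a model. -/
theorem flat_tensor_of_flat_quotient {S₀ S M B : Type u} [CommRing S₀] [CommRing S] [Algebra S₀ S]
    [Module.Flat S₀ S] [CommRing B] [Algebra S₀ B] (hsurj : Function.Surjective (algebraMap S₀ B))
    (I : Ideal S) (hI : I ≤ (RingHom.ker (algebraMap S₀ B)).map (algebraMap S₀ S))
    (hI' : ∀ x : S₀, algebraMap S₀ B x = 0 → algebraMap S₀ S x ∈ I)
    [AddCommGroup M] [Module S M] [Module S₀ M] [IsScalarTower S₀ S M]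
    (h : Module.Flat (S ⧸ I) (M ⧸ I • (⊤ : Submodule S M))) : Module.Flat B (B ⊗[S₀] M) := by
  let β₀ : S₀ →+* S ⧸ I := (Ideal.Quotient.mk I).comp (algebraMap S₀ S)
  let β : B →+* S ⧸ I := (algebraMap S₀ B).liftOfSurjective hsurj
    ⟨β₀, fun x hx => Ideal.Quotient.eq_zero_iff_mem.mpr (hI' x hx)⟩
  have hβ : ∀ x, β (algebraMap S₀ B x) = β₀ x := fun x =>
    RingHom.liftOfRightInverse_comp_apply _ _ _ ⟨β₀, fun x hx => Ideal.Quotient.eq_zero_iff_mem.mpr (hI' x hx)⟩ x
  letI : Algebra B (S ⧸ I) := β.toAlgebra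
  haveI : IsScalarTower S₀ B (S ⧸ I) := IsScalarTower.of_algebraMap_eq fun x => (hβ x).symm
  letI : Module B (M ⧸ I • (⊤ : Submodule S M)) := Module.compHom _ β
  haveI : IsScalarTower B (S ⧸ I) (M ⧸ I • (⊤ : Submodule S M)) :=
    ⟨fun b c m => by
      show (β b * c) • m = β b • c • m
      rw [mul_smul]⟩
  haveI : IsScalarTower S₀ B (M ⧸ I • (⊤ : Submodule S M)) := IsScalarTower.of_algebraMap_smul fun x m => by
    show β (algebraMap S₀ B x) • m = x • m
    rw [hβ]
    obtain ⟨m, rfl⟩ := Submodule.Quotient.mk_surjective _ m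
    show Submodule.Quotient.mk (algebraMap S₀ S x • m) = _
    rw [algebraMap_smul]
    rfl
  haveI : Module.Flat B (S ⧸ I) := by
    letI : Module B (S ⧸ I • (⊤ : Submodule S S)) := Module.compHom _ β
    haveI : IsScalarTower S₀ B (S ⧸ I • (⊤ : Submodule S S)) := IsScalarTower.of_algebraMap_smul fun x m => by
      show β (algebraMap S₀ B x) • m = x • m
      rw [hβ]
      obtain ⟨m, rfl⟩ := Submodule.Quotient.mk_surjective _ m
      show Submodule.Quotient.mk (algebraMap S₀ S x • m) = _
      rw [algebraMap_smul]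
      rfl
    haveI : Module.Flat B (S ⧸ I • (⊤ : Submodule S S)) :=
      Module.Flat.of_linearEquiv (LinearEquiv.ofBijective _
        (liftBaseChange_mkQ_bijective (M := S) hsurj I hI)).symm
    let e : (S ⧸ I) ≃ₗ[S] (S ⧸ I • (⊤ : Submodule S S)) :=
      Submodule.quotEquivOfEq _ _ (by simp)
    refine Module.Flat.of_linearEquiv { e.toAddEquiv with map_smul' := fun b z => ?_ }
    obtain ⟨x, rfl⟩ := hsurj b
    obtain ⟨y, rfl⟩ := Ideal.Quotient.mk_surjective z
    show e (β (algebraMap S₀ B x) * Ideal.Quotient.mk I y) = β (algebraMap S₀ B x) • e (Ideal.Quotient.mk I y)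
    rw [hβ]
    show e (Ideal.Quotient.mk I (algebraMap S₀ S x * y)) = _
    rfl
  haveI : Module.Flat B (M ⧸ I • (⊤ : Submodule S M)) := Module.Flat.trans B (S ⧸ I) _
  exact Module.Flat.of_linearEquiv
    (LinearEquiv.ofBijective _ (liftBaseChange_mkQ_bijective (M := M) hsurj I hI))

end Groth.L02.EssFP
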