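import Groth.Agent.L05.Henselization.Nbhd
import Groth.Agent.L05.Hensel.Criteria
import Groth.Agent.L05.Hensel.Projective
import Mathlib.LinearAlgebra.DirectSum.Finsupp

/-!
# Descending data from the henselization of a pair to an étale neighbourhood
-/

open CategoryTheory TensorProduct Polynomial

namespace Groth.L02.GoodStage

open Groth.L05.Henselization

universe u

variable {A : Type u} [CommRing A]

section

variable {K : Type u} [CommRing K] [Algebra A K]

/-- Finitely many equalities in the colimit hold at a later stage. -/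
theorem exists_map_zero {X : Obj A K} (s : Finset X.R) (hs : ∀ x ∈ s, ι X x = 0) :
    ∃ (Z : Obj A K) (f : X ⟶ Z), ∀ x ∈ s, f.1 x = 0 := by
  classical
  induction s using Finset.induction with
  | empty => exact ⟨X, 𝟙 X, by simp⟩
  | insert q s hq ih =>
    obtain ⟨Z, f, hf⟩ := ih fun r hr => hs r (Finset.mem_insert_of_mem hr)
    have h0 : ι Z (f.1 q) = ι Z 0 := by
      rw [map_zero, ι_map, hs q (Finset.mem_insert_self q s)]
    obtain ⟨W, h, hh⟩ := ι_eq h0
    refine ⟨W, f ≫ h, fun r hr => ?_⟩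
    show h.1 (f.1 r) = 0
    rcases Finset.mem_insert.mp hr with rfl | hr
    · rw [hh, map_zero]
    · rw [hf r hr, map_zero]

theorem exists_map_eq_poly {X : Obj A K} (p q : X.R[X])
    (h : p.map (ι X).toRingHom = q.map (ι X).toRingHom) :
    ∃ (Z : Obj A K) (f : X ⟶ Z), p.map f.1.toRingHom = q.map f.1.toRingHom := by
  classical
  obtain ⟨Z, f, hf⟩ := exists_map_zero (X := X) ((p - q).support.image (p - q).coeff) (by
    intro x hx
    obtain ⟨i, -, rfl⟩ := Finset.mem_image.mp hx
    have := congrArg (fun r => r.coeff i) h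
    simp only [coeff_map] at this
    rw [coeff_sub, map_sub, sub_eq_zero]
    exact this)
  refine ⟨Z, f, sub_eq_zero.mp ?_⟩
  rw [← Polynomial.map_sub]
  ext i
  rw [coeff_map, coeff_zero]
  by_cases hi : i ∈ (p - q).support
  · exact hf _ (Finset.mem_image_of_mem _ hi)
  · rw [notMem_support_iff.mp hi, map_zero]

variable {M : Type u} [AddCommGroup M] [Module A M]

theorem exists_rTensor_zero_finsupp {X : Obj A K} {J : Type u} (t : X.R ⊗[A] (J →₀ A))
    (ht : LinearMap.rTensor (J →₀ A) (ι X).toLinearMap t = 0) :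
    ∃ (Z : Obj A K) (f : X ⟶ Z), LinearMap.rTensor (J →₀ A) f.1.toLinearMap t = 0 := by
  classical
  have nat : ∀ (S : Type u) [CommRing S] [Algebra A S] (g : X.R →ₐ[A] S) (t : X.R ⊗[A] (J →₀ A))
      (j : J), finsuppScalarRight A A S J (LinearMap.rTensor (J →₀ A) g.toLinearMap t) j =
        g (finsuppScalarRight A A X.R J t j) := by
    intro S _ _ g t j
    induction t using TensorProduct.induction_on with
    | zero => simp
    | add a b ha hb => simp only [map_add, Finsupp.add_apply, ha, hb]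
    | tmul x v =>
      rw [LinearMap.rTensor_tmul, finsuppScalarRight_apply_tmul_apply,
        finsuppScalarRight_apply_tmul_apply, map_smul, AlgHom.toLinearMap_apply]
  obtain ⟨Z, f, hf⟩ := exists_map_zero (X := X)
    ((finsuppScalarRight A A X.R J t).support.image (finsuppScalarRight A A X.R J t)) (by
      intro x hx
      obtain ⟨j, -, rfl⟩ := Finset.mem_image.mp hx
      rw [← nat, ht, map_zero, Finsupp.zero_apply])
  refine ⟨Z, f, (finsuppScalarRight A A Z.R J).injective (Finsupp.ext fun j => ?_)⟩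
  rw [nat, map_zero, Finsupp.zero_apply]
  by_cases hj : j ∈ (finsuppScalarRight A A X.R J t).support
  · exact hf _ (Finset.mem_image_of_mem _ hj)
  · rw [Finsupp.notMem_support_iff.mp hj, map_zero]

theorem exists_rep_tensor (z : Col A K ⊗[A] M) :
    ∃ (X : Obj A K) (t : X.R ⊗[A] M), LinearMap.rTensor M (ι X).toLinearMap t = z := by
  induction z using TensorProduct.induction_on with
  | zero => exact ⟨(IsFiltered.nonempty (C := Obj A K)).some, 0, map_zero _⟩
  | tmul c m =>
    obtain ⟨X, x, rfl⟩ := ι_surj c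
    exact ⟨X, x ⊗ₜ m, rfl⟩
  | add a b ha hb =>
    obtain ⟨X, s, rfl⟩ := ha
    obtain ⟨Y, t, rfl⟩ := hb
    obtain ⟨Z, f, g, -⟩ := IsFilteredOrEmpty.cocone_objs X Y
    refine ⟨Z, LinearMap.rTensor M f.1.toLinearMap s + LinearMap.rTensor M g.1.toLinearMap t, ?_⟩
    rw [map_add, ← LinearMap.rTensor_comp_apply, ← LinearMap.rTensor_comp_apply,
      show (ι Z).toLinearMap ∘ₗ f.1.toLinearMap = (ι X).toLinearMap from LinearMap.ext (ι_map f),
      show (ι Z).toLinearMap ∘ₗ g.1.toLinearMap = (ι Y).toLinearMap from LinearMap.ext (ι_map g)]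

set_option backward.isDefEq.respectTransparency false in
/-- An element vanishing in the tensor product with the colimit vanishes at a later stage. -/
theorem exists_rTensor_zero {X : Obj A K} (z : X.R ⊗[A] M)
    (hz : LinearMap.rTensor M (ι X).toLinearMap z = 0) :
    ∃ (Z : Obj A K) (f : X ⟶ Z), LinearMap.rTensor M f.1.toLinearMap z = 0 := by
  let π : (M →₀ A) →ₗ[A] M := Finsupp.linearCombination A id
  have hπ : Function.Surjective π := fun m => ⟨Finsupp.single m 1, by simp [π]⟩
  have comm : ∀ {N N' P P' : Type u} [AddCommMonoid N] [Module A N] [AddCommMonoid N']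
      [Module A N'] [AddCommMonoid P] [Module A P] [AddCommMonoid P'] [Module A P'] (g : N →ₗ[A] N')
      (h : P →ₗ[A] P') (t : N ⊗[A] P),
      LinearMap.rTensor P' g (LinearMap.lTensor N h t) =
        LinearMap.lTensor N' h (LinearMap.rTensor P g t) := by
    intro N N' P P' _ _ _ _ _ _ _ _ g h t
    rw [← LinearMap.comp_apply, ← LinearMap.comp_apply (LinearMap.lTensor N' h),
      LinearMap.rTensor_comp_lTensor, LinearMap.lTensor_comp_rTensor]
  obtain ⟨t, rfl⟩ := LinearMap.lTensor_surjective X.R hπ z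
  rw [comm] at hz
  obtain ⟨w, hw⟩ := (lTensor_exact (M := ↥(LinearMap.ker π)) (Col A K) (LinearMap.exact_subtype_ker_map π) hπ _).mp hz
  obtain ⟨Y, w', rfl⟩ := exists_rep_tensor (A := A) (K := K) (M := ↥(LinearMap.ker π)) w
  obtain ⟨Z, f, g, -⟩ := IsFilteredOrEmpty.cocone_objs X Y
  obtain ⟨W, h, hh⟩ := exists_rTensor_zero_finsupp (X := Z)
    (LinearMap.rTensor _ f.1.toLinearMap t -
      LinearMap.lTensor Z.R (LinearMap.ker π).subtype (LinearMap.rTensor _ g.1.toLinearMap w')) (by
    rw [map_sub, comm, ← LinearMap.rTensor_comp_apply, ← LinearMap.rTensor_comp_apply,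
      show (ι Z).toLinearMap ∘ₗ f.1.toLinearMap = (ι X).toLinearMap from LinearMap.ext (ι_map f),
      show (ι Z).toLinearMap ∘ₗ g.1.toLinearMap = (ι Y).toLinearMap from LinearMap.ext (ι_map g),
      ← hw, sub_self])
  refine ⟨W, f ≫ h, ?_⟩
  have e : (f ≫ h).1.toLinearMap = h.1.toLinearMap ∘ₗ f.1.toLinearMap := rfl
  rw [e, LinearMap.rTensor_comp_apply, comm, comm]
  rw [map_sub, sub_eq_zero, comm] at hh
  rw [hh, ← LinearMap.comp_apply, ← LinearMap.lTensor_comp,
    show π ∘ₗ (LinearMap.ker π).subtype = 0 from LinearMap.ext fun x => x.2,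
    LinearMap.lTensor_zero, LinearMap.zero_apply]

end

variable {I : Ideal A}

/-- A stage of the henselization which is an étale neighbourhood. -/
def Good (X : Obj A (A ⧸ I)) : Prop := RingHom.ker X.φ = I.map (algebraMap A X.R)

theorem exists_good (X : Obj A (A ⧸ I)) : ∃ (Y : Obj A (A ⧸ I)) (_ : X ⟶ Y), Good Y := by
  obtain ⟨E, _, _, _, σ, g, hσ, hg⟩ := exists_refine I X.φ
  obtain ⟨Y, e, f, he, -⟩ := Obj.exists_hom E σ g hg
  refine ⟨Y, f, ?_⟩
  unfold Good
  rw [← e.toAlgHom.comp_algebraMap, ← Ideal.map_map, ← hσ]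
  ext y
  obtain ⟨x, rfl⟩ := e.surjective y
  have hx : Y.φ (e x) = σ x := DFunLike.congr_fun he x
  rw [RingHom.mem_ker, hx]
  refine ⟨fun h => Ideal.mem_map_of_mem _ h, fun h => ?_⟩
  obtain ⟨x', hx', hxx⟩ := (Ideal.mem_map_iff_of_surjective _ e.surjective).mp h
  rw [e.injective hxx] at hx'
  exact hx'

theorem bijective_of_ker {E : Type u} [CommRing E] [Algebra A E] (σ : E →ₐ[A] A ⧸ I)
    (h : RingHom.ker σ = I.map (algebraMap A E)) :
    Function.Bijective (algebraMap (A ⧸ I) (E ⧸ I.map (algebraMap A E))) :=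
  (exists_section_iff I).mpr ⟨σ, h⟩

theorem mk_eq_of_ker {E : Type u} [CommRing E] [Algebra A E] (σ : E →ₐ[A] A ⧸ I)
    (h : RingHom.ker σ = I.map (algebraMap A E)) (x : E) :
    Ideal.Quotient.mk (I.map (algebraMap A E)) x =
      algebraMap (A ⧸ I) (E ⧸ I.map (algebraMap A E)) (σ x) := by
  obtain ⟨a, ha⟩ := Ideal.Quotient.mk_surjective (σ x)
  rw [← ha]
  show _ = Ideal.Quotient.mk _ (algebraMap A E a)
  rw [Ideal.Quotient.eq]
  refine h.le ?_
  rw [RingHom.mem_ker, map_sub, σ.commutes, ← ha]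
  exact sub_self _

variable (I) in
theorem henselian : HenselianRing (PairHens A I) (I.map (algebraMap A (PairHens A I))) :=
  (isPairHenselization A I).1

theorem ε_eq_of_mk_eq {b : PairHens A I} {q : A ⧸ I}
    (h : Ideal.Quotient.mk (I.map (algebraMap A (PairHens A I))) b =
      algebraMap (A ⧸ I) (PairHens A I ⧸ I.map (algebraMap A (PairHens A I))) q) :
    ε A (A ⧸ I) b = q := by
  obtain ⟨a, rfl⟩ := Ideal.Quotient.mk_surjective q
  change _ = Ideal.Quotient.mk _ (algebraMap A (PairHens A I) a) at h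
  rw [Ideal.Quotient.eq, ← ker_ε_pair, RingHom.mem_ker, map_sub, sub_eq_zero, AlgHom.commutes] at h
  exact h

/-- Coprime monic factorisations lift to an étale neighbourhood. -/
theorem exists_factor (f : A[X]) (hf : f.Monic) (g h : (A ⧸ I)[X]) (hg : g.Monic) (hh : h.Monic)
    (hcop : IsCoprime g h) (hfgh : f.map (Ideal.Quotient.mk I) = g * h) :
    ∃ (A' : Type u) (_ : CommRing A') (_ : Algebra A A') (σ : A' →ₐ[A] A ⧸ I), Algebra.Etale A A' ∧
      RingHom.ker σ = I.map (algebraMap A A') ∧ ∃ g' h' : A'[X], g'.Monic ∧ h'.Monic ∧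
      f.map (algebraMap A A') = g' * h' ∧ g'.map σ.toRingHom = g ∧ h'.map σ.toRingHom = h := by
  classical
  set H := PairHens A I
  set J := I.map (algebraMap A H)
  have : HenselianRing H J := henselian I
  set ρ := algebraMap (A ⧸ I) (H ⧸ J)
  have hρ : ρ.comp (Ideal.Quotient.mk I) = (Ideal.Quotient.mk J).comp (algebraMap A H) :=
    RingHom.ext fun a => rfl
  obtain ⟨gH, kH, hgH, hkH, heq, hgm, hkm, -⟩ :=
    Groth.L05.exists_factor_lift J (f.map (algebraMap A H)) (hf.map _) (g.map ρ) (h.map ρ)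
      (hg.map ρ) (hh.map ρ) (hcop.map (Polynomial.mapRingHom ρ)) (by
        rw [Polynomial.map_map, ← hρ, ← Polynomial.map_map, hfgh, Polynomial.map_mul])
  obtain ⟨X, hX⟩ := exists_lift_finset (gH.support.image gH.coeff ∪ kH.support.image kH.coeff)
  have lift : ∀ p : H[X], p.Monic → (∀ i ∈ p.support, p.coeff i ∈ (ι X).range) →
      ∃ P : X.R[X], P.map (ι X).toRingHom = p ∧ P.Monic := by
    intro p hp hc
    have hl : p ∈ Polynomial.lifts (ι X).toRingHom := by
      rw [Polynomial.lifts_iff_coeff_lifts]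
      intro i
      by_cases hi : i ∈ p.support
      · exact hc i hi
      · exact ⟨0, by rw [map_zero, notMem_support_iff.mp hi]⟩
    obtain ⟨P, hP, -, hPm⟩ := Polynomial.lifts_and_natDegree_eq_and_monic hl hp
    exact ⟨P, hP, hPm⟩
  obtain ⟨G, hG, hGm⟩ := lift gH hgH fun i hi =>
    hX _ (Finset.mem_union_left _ (Finset.mem_image_of_mem _ hi))
  obtain ⟨K, hK, hKm⟩ := lift kH hkH fun i hi =>
    hX _ (Finset.mem_union_right _ (Finset.mem_image_of_mem _ hi))
  obtain ⟨Y, v, hv⟩ := exists_map_eq_poly (X := X) (f.map (algebraMap A X.R)) (G * K) (by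
    rw [Polynomial.map_map, AlgHom.toRingHom_eq_coe, AlgHom.comp_algebraMap, Polynomial.map_mul]
    rw [AlgHom.toRingHom_eq_coe] at hG hK
    rw [hG, hK, heq])
  obtain ⟨Z, w, hZ⟩ := exists_good Y
  let r : X.R →+* Z.R := (w.1.comp v.1).toRingHom
  refine ⟨Z.R, inferInstance, inferInstance, Z.φ, Z.etale, hZ, G.map r, K.map r, hGm.map r, hKm.map r, ?_, ?_, ?_⟩
  · have := congrArg (Polynomial.map w.1.toRingHom) hv
    simp only [Polynomial.map_map, Polynomial.map_mul, AlgHom.toRingHom_eq_coe] at this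
    rw [show algebraMap A Z.R = ((w.1 : Y.R →+* Z.R).comp ((v.1 : X.R →+* Y.R).comp
      (algebraMap A X.R))) from RingHom.ext fun a => by simp]
    exact this
  all_goals
    ext i
    rw [coeff_map, coeff_map]
    show Z.φ ((v ≫ w).1 _) = _
    rw [← ε_ι, ι_map]
    refine ε_eq_of_mk_eq ?_
  · have := congrArg (fun p => p.coeff i) hgm
    simp only [coeff_map, ← hG] at this
    exact this
  · have := congrArg (fun p => p.coeff i) hkm
    simp only [coeff_map, ← hK] at this
    exact this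

section Matrix

variable {R : Type u} [CommRing R] {n : ℕ}

/-- Base change of the image of an idempotent matrix. -/
theorem baseChange_range_equiv (S : Type u) [CommRing S] [Algebra R S]
    (e : Matrix (Fin n) (Fin n) R) (he : IsIdempotentElem e) :
    Nonempty ((S ⊗[R] LinearMap.range (Matrix.toLin' e)) ≃ₗ[S]
      LinearMap.range (Matrix.toLin' (e.map (algebraMap R S)))) := by
  let el := Matrix.toLin' e
  let P := LinearMap.range el
  let r : (Fin n → R) →ₗ[R] P := el.rangeRestrict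
  have hr : r ∘ₗ P.subtype = LinearMap.id := by
    refine LinearMap.ext fun ⟨v, w, hw⟩ => Subtype.ext ?_
    show el v = v
    rw [← hw, ← LinearMap.comp_apply, ← Matrix.toLin'_mul, show e * e = e from he]
  let piE : S ⊗[R] (Fin n → R) ≃ₗ[S] (Fin n → S) := TensorProduct.piScalarRight R S S (Fin n)
  have hconj : ∀ z, piE (el.baseChange S z) =
      Matrix.toLin' (e.map (algebraMap R S)) (piE z) := by
    intro z
    induction z using TensorProduct.induction_on with
    | zero => simp
    | add a b ha hb => simp only [map_add, ha, hb]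
    | tmul a v =>
      ext i
      simp [piE, el, Matrix.mulVec, dotProduct, Algebra.smul_def, map_sum,
        Finset.sum_mul, mul_assoc]
  let F : S ⊗[R] P →ₗ[S] (Fin n → S) := piE.toLinearMap ∘ₗ P.subtype.baseChange S
  let G : (Fin n → S) →ₗ[S] S ⊗[R] P := r.baseChange S ∘ₗ piE.symm.toLinearMap
  have hGF : ∀ z, G (F z) = z := fun z => by
    show r.baseChange S (piE.symm (piE (P.subtype.baseChange S z))) = z
    rw [LinearEquiv.symm_apply_apply, ← LinearMap.comp_apply, ← LinearMap.baseChange_comp, hr,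
      LinearMap.baseChange_id]
    rfl
  have hFG : ∀ y, F (G y) = Matrix.toLin' (e.map (algebraMap R S)) y := fun y => by
    show piE (P.subtype.baseChange S (r.baseChange S (piE.symm y))) = _
    rw [← LinearMap.comp_apply, ← LinearMap.baseChange_comp,
      show P.subtype ∘ₗ r = el from rfl, hconj, LinearEquiv.apply_symm_apply]
  have hrange : LinearMap.range F = LinearMap.range (Matrix.toLin' (e.map (algebraMap R S))) := by
    refine le_antisymm ?_ ?_
    · rintro _ ⟨z, rfl⟩
      exact ⟨F z, by rw [← hFG, hGF]⟩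
    · rintro _ ⟨y, rfl⟩
      exact ⟨G y, hFG y⟩
  exact ⟨(LinearEquiv.ofInjective F (Function.LeftInverse.injective hGF)).trans
    (LinearEquiv.ofEq _ _ hrange)⟩

/-- A finite projective module is the image of an idempotent matrix. -/
theorem exists_idempotent_matrix (P : Type u) [AddCommGroup P] [Module R P] [Module.Finite R P]
    [Module.Projective R P] : ∃ (n : ℕ) (e : Matrix (Fin n) (Fin n) R), IsIdempotentElem e ∧
      Nonempty (P ≃ₗ[R] LinearMap.range (Matrix.toLin' e)) := by
  obtain ⟨n, π, s, hπ, hs, hπs⟩ := Module.Finite.exists_comp_eq_id_of_projective R P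
  refine ⟨n, LinearMap.toMatrix' (s ∘ₗ π), ?_, ?_⟩
  · unfold IsIdempotentElem
    rw [← LinearMap.toMatrix'_comp, LinearMap.comp_assoc, ← LinearMap.comp_assoc _ s π, hπs,
      LinearMap.id_comp]
  · rw [Matrix.toLin'_toMatrix', LinearMap.range_comp_of_range_eq_top s
      (LinearMap.range_eq_top.mpr hπ)]
    exact ⟨LinearEquiv.ofInjective s hs⟩

end Matrix

/-- Idempotent matrices lift to an étale neighbourhood. -/
theorem exists_idem_matrix_lift {n : ℕ} (Ebar : Matrix (Fin n) (Fin n) (A ⧸ I))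
    (hE : IsIdempotentElem Ebar) :
    ∃ (A' : Type u) (_ : CommRing A') (_ : Algebra A A') (σ : A' →ₐ[A] A ⧸ I), Algebra.Etale A A' ∧
      RingHom.ker σ = I.map (algebraMap A A') ∧
      ∃ e : Matrix (Fin n) (Fin n) A', IsIdempotentElem e ∧ e.map σ = Ebar := by
  classical
  set H := PairHens A I
  set J := I.map (algebraMap A H)
  have : HenselianRing H J := henselian I
  choose E₀ hE₀ using fun i j => Ideal.Quotient.mk_surjective (Ebar i j)
  let E : Matrix (Fin n) (Fin n) H := Matrix.of fun i j => algebraMap A H (E₀ i j)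
  let φ : Matrix (Fin n) (Fin n) H →+* Matrix (Fin n) (Fin n) (A ⧸ I) :=
    (ε A (A ⧸ I)).toRingHom.mapMatrix
  have hφE : φ E = Ebar := by
    ext i j
    show ε A (A ⧸ I) (algebraMap A H (E₀ i j)) = _
    rw [AlgHom.commutes]
    exact hE₀ i j
  have hker : ∀ a ∈ J, ε A (A ⧸ I) a = 0 := fun a ha => by
    rw [← RingHom.mem_ker, ker_ε_pair]; exact ha
  obtain ⟨q, hq, hqφ⟩ := Groth.L05.exists_aeval_idem J E fun z => by
    have h0 : φ ((E * E - E) * z) = 0 := by
      rw [map_mul, map_sub, map_mul, hφE, hE.eq, sub_self, zero_mul]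
    set w := (E * E - E) * z
    rw [Matrix.matrix_eq_sum_single w]
    refine Submodule.sum_mem _ fun i _ => Submodule.sum_mem _ fun j _ => ?_
    have hw : w i j ∈ J := (ker_ε_pair A I).le (congrFun (congrFun h0 i) j)
    rw [← mul_one (w i j), ← smul_eq_mul, ← Matrix.smul_single]
    exact Submodule.smul_mem_smul hw Submodule.mem_top
  let eH := aeval E q
  have hφe : φ eH = Ebar := (hqφ φ (fun a ha => by
    ext i j
    simp [φ, Matrix.algebraMap_eq_diagonal, Matrix.diagonal_apply, hker a ha,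
      apply_ite (ε A (A ⧸ I))]) (hφE ▸ hE)).trans hφE
  obtain ⟨X, hX⟩ := exists_lift_finset (Finset.univ.image fun p : Fin n × Fin n => eH p.1 p.2)
  choose e₀ he₀ using fun i j =>
    hX (eH i j) (Finset.mem_image_of_mem (fun p : Fin n × Fin n => eH p.1 p.2)
      (Finset.mem_univ (i, j)))
  let e : Matrix (Fin n) (Fin n) X.R := Matrix.of e₀
  have he : (ι X).toRingHom.mapMatrix e = eH := by ext i j; exact he₀ i j
  have hz : (ι X).toRingHom.mapMatrix (e * e - e) = 0 := by
    rw [map_sub, map_mul, he, hq.eq, sub_self]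
  obtain ⟨Y, v, hv⟩ := exists_map_zero (X := X)
    (Finset.univ.image fun p : Fin n × Fin n => (e * e - e) p.1 p.2) (by
      intro x hx
      obtain ⟨⟨i, j⟩, -, rfl⟩ := Finset.mem_image.mp hx
      exact congrFun (congrFun hz i) j)
  obtain ⟨Z, w, hZ⟩ := exists_good Y
  refine ⟨Z.R, inferInstance, inferInstance, Z.φ, Z.etale, hZ, (v ≫ w).1.toRingHom.mapMatrix e, ?_, ?_⟩
  · unfold IsIdempotentElem
    rw [← map_mul, ← sub_eq_zero, ← map_sub]
    ext i j
    show w.1 (v.1 ((e * e - e) i j)) = 0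
    rw [hv _ (Finset.mem_image_of_mem (fun p : Fin n × Fin n => (e * e - e) p.1 p.2)
      (Finset.mem_univ (i, j))), map_zero]
  · rw [← hφe, ← he]
    ext i j
    show Z.φ ((v ≫ w).1 (e i j)) = ε A (A ⧸ I) (ι X (e i j))
    rw [← ε_ι, ι_map]

variable {B : Type u} [CommRing B] [Algebra A B]

/-- Idempotents of integral algebras lift to an étale neighbourhood. -/
theorem exists_idem [Algebra.IsIntegral A B] (u : B) (hu : u * u - u ∈ I.map (algebraMap A B)) :
    ∃ (A' : Type u) (_ : CommRing A') (_ : Algebra A A') (σ : A' →ₐ[A] A ⧸ I), Algebra.Etale A A' ∧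
      RingHom.ker σ = I.map (algebraMap A A') ∧ ∃ e : A' ⊗[A] B, IsIdempotentElem e ∧
      e - 1 ⊗ₜ u ∈ I.map (algebraMap A (A' ⊗[A] B)) := by
  set H := PairHens A I
  set J := I.map (algebraMap A H)
  have : HenselianRing H J := henselian I
  have hJ : J.map (algebraMap H (H ⊗[A] B)) = I.map (algebraMap A (H ⊗[A] B)) := by
    rw [Ideal.map_map, ← IsScalarTower.algebraMap_eq]
  have hu' : (1 ⊗ₜ u : H ⊗[A] B) * (1 ⊗ₜ u) - 1 ⊗ₜ u ∈ J.map (algebraMap H (H ⊗[A] B)) := by
    have h := Ideal.mem_map_of_mem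
      (Algebra.TensorProduct.includeRight : B →ₐ[A] H ⊗[A] B).toRingHom hu
    rw [Ideal.map_map, AlgHom.toRingHom_eq_coe, AlgHom.comp_algebraMap] at h
    rw [hJ]
    simpa [TensorProduct.tmul_sub] using h
  obtain ⟨eH, heH, hmem⟩ := Groth.L05.exists_idem_lift_of_integral J (1 ⊗ₜ u : H ⊗[A] B) hu'
  rw [hJ] at hmem
  let F : ∀ {X Y : Type u} [CommRing X] [Algebra A X] [CommRing Y] [Algebra A Y],
      (X →ₐ[A] Y) → X ⊗[A] B →ₐ[A] Y ⊗[A] B := fun f =>
    Algebra.TensorProduct.map f (AlgHom.id A B)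
  have hF : ∀ {X Y : Type u} [CommRing X] [Algebra A X] [CommRing Y] [Algebra A Y]
      (f : X →ₐ[A] Y) (t : X ⊗[A] B), F f t = LinearMap.rTensor B f.toLinearMap t := by
    intro X Y _ _ _ _ f t
    rfl
  have hcomp : ∀ {X Y : Obj A (A ⧸ I)} (f : X ⟶ Y) (t : X.R ⊗[A] B),
      F (ι Y) (F f.1 t) = F (ι X) t := by
    intro X Y f t
    rw [hF, hF, hF, ← LinearMap.rTensor_comp_apply,
      show (ι Y).toLinearMap ∘ₗ f.1.toLinearMap = (ι X).toLinearMap from LinearMap.ext (ι_map f)]
  have hmap : ∀ {X Y : Type u} [CommRing X] [Algebra A X] [CommRing Y] [Algebra A Y]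
      (f : X →ₐ[A] Y) (t : X ⊗[A] B), t ∈ I.map (algebraMap A (X ⊗[A] B)) →
      F f t ∈ I.map (algebraMap A (Y ⊗[A] B)) := by
    intro X Y _ _ _ _ f t ht
    have := Ideal.mem_map_of_mem (F f).toRingHom ht
    rwa [Ideal.map_map, AlgHom.toRingHom_eq_coe, AlgHom.comp_algebraMap] at this
  let P : ∀ (X : Type u) [CommRing X] [Algebra A X], Ideal (X ⊗[A] B) := fun X =>
    I.map (algebraMap A (X ⊗[A] B))
  have hrep : ∀ z ∈ I.map (algebraMap A (H ⊗[A] B)), ∃ (X : Obj A (A ⧸ I)) (t : X.R ⊗[A] B),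
      t ∈ P X.R ∧ F (ι X) t = z := by
    intro z hz
    induction hz using Submodule.span_induction with
    | mem z hz =>
      obtain ⟨i, hi, rfl⟩ := hz
      exact ⟨(IsFiltered.nonempty (C := Obj A (A ⧸ I))).some, _, Ideal.mem_map_of_mem _ hi,
        AlgHom.commutes _ i⟩
    | zero => exact ⟨(IsFiltered.nonempty (C := Obj A (A ⧸ I))).some, 0, zero_mem _, map_zero _⟩
    | add a b _ _ ha hb =>
      obtain ⟨X, s, hs, rfl⟩ := ha
      obtain ⟨Y, t, ht, rfl⟩ := hb
      obtain ⟨Z, f, g, -⟩ := IsFilteredOrEmpty.cocone_objs X Y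
      exact ⟨Z, F f.1 s + F g.1 t, add_mem (hmap _ _ hs) (hmap _ _ ht), by
        rw [map_add, hcomp, hcomp]⟩
    | smul c a _ ha =>
      obtain ⟨X, s, hs, rfl⟩ := ha
      obtain ⟨Y, t, rfl⟩ := exists_rep_tensor c
      obtain ⟨Z, f, g, -⟩ := IsFilteredOrEmpty.cocone_objs X Y
      exact ⟨Z, F g.1 t * F f.1 s, Ideal.mul_mem_left _ _ (hmap _ _ hs), by
        rw [map_mul, hcomp, hcomp, hF (ι Y)]; rfl⟩
  obtain ⟨X, t, ht, hteq⟩ := hrep _ hmem
  let e : X.R ⊗[A] B := t + 1 ⊗ₜ u
  have he : F (ι X) e = eH := by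
    rw [map_add, hteq, hF, LinearMap.rTensor_tmul, AlgHom.toLinearMap_apply, map_one,
      sub_add_cancel]
  obtain ⟨Y, v, hv⟩ := exists_rTensor_zero (X := X) (e * e - e) (by
    rw [← hF, map_sub, map_mul, he, heH.eq, sub_self])
  obtain ⟨Z, w, hZ⟩ := exists_good Y
  refine ⟨Z.R, inferInstance, inferInstance, Z.φ, Z.etale, hZ, F w.1 (F v.1 e), ?_, ?_⟩
  · rw [← hF] at hv
    unfold IsIdempotentElem
    rw [← map_mul, ← map_mul, ← sub_eq_zero, ← map_sub, ← map_sub, hv, map_zero]
  · have h1 : F w.1 (F v.1 e) - 1 ⊗ₜ u = F w.1 (F v.1 t) := by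
      simp only [e, map_add]
      rw [hF v.1 ((1 : X.R) ⊗ₜ u), LinearMap.rTensor_tmul, AlgHom.toLinearMap_apply, map_one,
        hF w.1 ((1 : Y.R) ⊗ₜ u), LinearMap.rTensor_tmul, AlgHom.toLinearMap_apply, map_one,
        add_sub_cancel_right]
    rw [h1]
    exact hmap _ _ (hmap _ _ ht)

end Groth.L02.GoodStage
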