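import Mathlib.RingTheory.MvPowerSeries.Basic
import Mathlib.RingTheory.Derivation.Basic
import Mathlib.RingTheory.Ideal.Quotient.Operations
import Mathlib.Tactic

/-!
The node `A[[x,y]]/(xy - α)` determines the ideal `(α)`: the ideal generated by the images of all
`A`-derivations is `(x,y)`.
-/

set_option autoImplicit false

universe u

open MvPowerSeries

namespace L02.CAlg.NodeInvariant

variable {A : Type u} [CommRing A]

/-- The ideal `(xy - α)`. -/
noncomputable abbrev rel (α : A) : Ideal (MvPowerSeries (Fin 2) A) :=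
  Ideal.span {X 0 * X 1 - C α}

/-- The node algebra. -/
abbrev Node (α : A) : Type u := MvPowerSeries (Fin 2) A ⧸ rel α

/-- The Euler derivation `x∂x - y∂y`. -/
noncomputable def euler : Derivation A (MvPowerSeries (Fin 2) A) (MvPowerSeries (Fin 2) A) :=
  Derivation.mk'
    { toFun := fun f => ((fun n => ((n 0 : A) - (n 1 : A)) * coeff n f) : MvPowerSeries (Fin 2) A)
      map_add' := fun f g => MvPowerSeries.ext fun n => by
        show ((n 0 : A) - (n 1 : A)) * coeff n (f + g) = _ * coeff n f + _ * coeff n g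
        rw [map_add, mul_add]
      map_smul' := fun r f => MvPowerSeries.ext fun n => by
        show ((n 0 : A) - (n 1 : A)) * coeff n (r • f) = r * (_ * coeff n f)
        rw [coeff_smul, mul_left_comm] }
    fun f g => MvPowerSeries.ext fun n => by
      classical
      show ((n 0 : A) - (n 1 : A)) * coeff n (f * g) = _
      rw [map_add, smul_eq_mul, smul_eq_mul, mul_comm g, coeff_mul, coeff_mul, coeff_mul,
        Finset.mul_sum, ← Finset.sum_add_distrib]
      refine Finset.sum_congr rfl fun p hp => ?_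
      rw [Finset.mem_antidiagonal] at hp
      show _ = coeff p.1 f * (((p.2 0 : A) - (p.2 1 : A)) * coeff p.2 g) +
        (((p.1 0 : A) - (p.1 1 : A)) * coeff p.1 f) * coeff p.2 g
      rw [← hp]
      simp only [Finsupp.coe_add, Pi.add_apply, Nat.cast_add]
      ring

theorem coeff_euler (n : Fin 2 →₀ ℕ) (f : MvPowerSeries (Fin 2) A) :
    coeff n (euler f) = ((n 0 : A) - (n 1 : A)) * coeff n f := rfl

theorem euler_X0 : euler (X 0 : MvPowerSeries (Fin 2) A) = X 0 := by
  classical
  refine MvPowerSeries.ext fun n => ?_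
  rw [coeff_euler, coeff_X]
  split_ifs with h
  · subst h; simp
  · rw [mul_zero]

theorem euler_X1 : euler (X 1 : MvPowerSeries (Fin 2) A) = -X 1 := by
  classical
  refine MvPowerSeries.ext fun n => ?_
  rw [coeff_euler, map_neg, coeff_X]
  split_ifs with h
  · subst h; simp
  · rw [mul_zero, neg_zero]

theorem euler_rel (α : A) (f : MvPowerSeries (Fin 2) A) (hf : f ∈ rel α) : euler f ∈ rel α := by
  obtain ⟨c, rfl⟩ := Ideal.mem_span_singleton'.mp hf
  have h0 : euler (X 0 * X 1 - C α : MvPowerSeries (Fin 2) A) = 0 := by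
    rw [map_sub, Derivation.leibniz, euler_X0, euler_X1,
      show (C α : MvPowerSeries (Fin 2) A) = algebraMap A _ α from rfl, Derivation.map_algebraMap,
      sub_zero, smul_eq_mul, smul_eq_mul]
    ring
  rw [Derivation.leibniz, h0, smul_zero, zero_add, smul_eq_mul]
  exact Ideal.mul_mem_right _ _ (Ideal.mem_span_singleton_self _)

/-- The Euler derivation of the node. -/
noncomputable def eulerNode (α : A) : Derivation A (Node α) (Node α) :=
  Derivation.liftOfSurjective (f := Ideal.Quotient.mkₐ A (rel α)) Ideal.Quotient.mk_surjective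
    (d := euler) fun x hx =>
      Ideal.Quotient.eq_zero_iff_mem.mpr (euler_rel α x (Ideal.Quotient.eq_zero_iff_mem.mp hx))

/-- The singular ideal `(x,y)`. -/
noncomputable def sing (α : A) : Ideal (Node α) :=
  (Ideal.span {X 0, X 1} : Ideal (MvPowerSeries (Fin 2) A)).map (Ideal.Quotient.mk (rel α))

/-- The ideal generated by the images of all derivations. -/
def derIdeal (B : Type*) [CommRing B] [Algebra A B] : Ideal B :=
  Ideal.span {b | ∃ (D : Derivation A B B) (c : B), D c = b}

theorem derIdeal_le {B B' : Type*} [CommRing B] [Algebra A B] [CommRing B'] [Algebra A B']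
    (φ : B ≃ₐ[A] B') : (derIdeal (A := A) B).map φ.toAlgHom.toRingHom ≤ derIdeal (A := A) B' := by
  rw [derIdeal, Ideal.map_span, Ideal.span_le]
  rintro _ ⟨_, ⟨D, c, rfl⟩, rfl⟩
  let D' : Derivation A B' B' := Derivation.mk' (φ.toLinearMap ∘ₗ D.toLinearMap ∘ₗ φ.symm.toLinearMap)
    fun a b => by
      show φ (D (φ.symm (a * b))) = a • φ (D (φ.symm b)) + b • φ (D (φ.symm a))
      rw [map_mul, Derivation.leibniz, map_add, smul_eq_mul, smul_eq_mul, smul_eq_mul, smul_eq_mul,
        map_mul, map_mul, AlgEquiv.apply_symm_apply, AlgEquiv.apply_symm_apply]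
  refine Ideal.subset_span ⟨D', φ c, ?_⟩
  show φ (D (φ.symm (φ c))) = φ (D c)
  rw [AlgEquiv.symm_apply_apply]

theorem exists_decomp (f : MvPowerSeries (Fin 2) A) :
    ∃ g h, f = C (constantCoeff f) + X 0 * g + X 1 * h := by
  classical
  let f1 : MvPowerSeries (Fin 2) A := fun n => if n 0 = 0 then 0 else coeff n f
  obtain ⟨g, hg⟩ : (X 0 : MvPowerSeries (Fin 2) A) ∣ f1 :=
    X_dvd_iff.mpr fun m hm => by show (if m 0 = 0 then (0 : A) else _) = 0; rw [if_pos hm]
  obtain ⟨h, hh⟩ : (X 1 : MvPowerSeries (Fin 2) A) ∣ (f - f1 - C (constantCoeff f)) :=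
    X_dvd_iff.mpr fun m hm => by
      rw [map_sub, map_sub, coeff_C]
      by_cases h0 : m = 0
      · subst h0
        have hf1 : coeff (0 : Fin 2 →₀ ℕ) f1 = 0 := by
          show (if (0 : Fin 2 →₀ ℕ) 0 = 0 then (0 : A) else coeff (0 : Fin 2 →₀ ℕ) f) = 0
          simp
        rw [if_pos rfl, hf1, sub_zero]
        exact sub_self _
      · rw [if_neg h0, sub_zero]
        have h00 : m 0 ≠ 0 := fun h => h0 (Finsupp.ext fun i => by fin_cases i <;> simp [h, hm])
        rw [show coeff m f1 = (if m 0 = 0 then (0 : A) else coeff m f) from rfl, if_neg h00, sub_self]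
  exact ⟨g, h, by rw [← hg, ← hh]; ring⟩

theorem constantCoeff_mem (α : A) {p q : MvPowerSeries (Fin 2) A}
    (h : X 1 * p + X 0 * q ∈ rel α) : constantCoeff p ∈ Ideal.span {α} := by
  classical
  obtain ⟨c, hc⟩ := Ideal.mem_span_singleton'.mp h
  have e := congrArg (coeff (Finsupp.single 1 1)) hc
  rw [mul_sub, map_sub, map_add, mul_comm c (C α), coeff_C_mul,
    show coeff (Finsupp.single 1 1) (c * (X 0 * X 1)) = (0 : A) from
      X_dvd_iff.mp ((dvd_mul_right (X 0) (X 1)).mul_left c) _ (by simp),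
    show coeff (Finsupp.single 1 1) (X 0 * q) = (0 : A) from
      X_dvd_iff.mp (dvd_mul_right (X 0) q) _ (by simp),
    add_zero, show coeff (Finsupp.single 1 1) (X 1 * p) = constantCoeff p from by
      rw [show (X 1 : MvPowerSeries (Fin 2) A) = monomial (Finsupp.single 1 1) 1 from rfl]
      rw [coeff_monomial_mul, if_pos le_rfl, tsub_self, one_mul]
      rfl] at e
  rw [← e, zero_sub]
  exact neg_mem (Ideal.mul_mem_right _ _ (Ideal.mem_span_singleton_self α))

theorem algebraMap_mem_sing (α : A) : algebraMap A (Node α) α ∈ sing α := by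
  have : algebraMap A (Node α) α = Ideal.Quotient.mk (rel α) (X 0 * X 1) := by
    show Ideal.Quotient.mk (rel α) (C α) = _
    rw [eq_comm, Ideal.Quotient.eq]
    exact Ideal.mem_span_singleton_self _
  rw [this]
  exact Ideal.mem_map_of_mem _ (Ideal.mul_mem_right _ _ (Ideal.subset_span (Or.inl rfl)))

theorem mk_mem_sing (α : A) {f : MvPowerSeries (Fin 2) A} (hf : constantCoeff f ∈ Ideal.span {α}) :
    Ideal.Quotient.mk (rel α) f ∈ sing α := by
  obtain ⟨g, h, hgh⟩ := exists_decomp f
  obtain ⟨r, hr⟩ := Ideal.mem_span_singleton'.mp hf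
  rw [hgh, map_add, map_add, ← hr, map_mul C, map_mul (Ideal.Quotient.mk (rel α))]
  refine add_mem (add_mem (Ideal.mul_mem_left _ _ (algebraMap_mem_sing α)) ?_) ?_
  · exact Ideal.mem_map_of_mem _ (Ideal.mul_mem_right _ _ (Ideal.subset_span (Or.inl rfl)))
  · exact Ideal.mem_map_of_mem _ (Ideal.mul_mem_right _ _ (Ideal.subset_span (Or.inr rfl)))

theorem derivation_X_mem (α : A) (D : Derivation A (Node α) (Node α)) :
    D (Ideal.Quotient.mk (rel α) (X 0)) ∈ sing α ∧
      D (Ideal.Quotient.mk (rel α) (X 1)) ∈ sing α := by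
  obtain ⟨p, hp⟩ := Ideal.Quotient.mk_surjective (D (Ideal.Quotient.mk (rel α) (X 0)))
  obtain ⟨q, hq⟩ := Ideal.Quotient.mk_surjective (D (Ideal.Quotient.mk (rel α) (X 1)))
  have h0 : Ideal.Quotient.mk (rel α) (X 1 * p + X 0 * q) = 0 := by
    rw [map_add, map_mul, map_mul, hp, hq, add_comm, ← smul_eq_mul, ← smul_eq_mul,
      ← D.leibniz, ← map_mul,
      show Ideal.Quotient.mk (rel α) (X 0 * X 1) = algebraMap A (Node α) α from
        Ideal.Quotient.eq.mpr (Ideal.mem_span_singleton_self _)]
    exact D.map_algebraMap α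
  have h1 := Ideal.Quotient.eq_zero_iff_mem.mp h0
  refine ⟨hp ▸ mk_mem_sing α (constantCoeff_mem α h1), hq ▸ mk_mem_sing α ?_⟩
  classical
  obtain ⟨c, hc⟩ := Ideal.mem_span_singleton'.mp h1
  have e := congrArg (coeff (Finsupp.single 0 1)) hc
  rw [mul_sub, map_sub, map_add, mul_comm c (C α), coeff_C_mul,
    show coeff (Finsupp.single 0 1) (c * (X 0 * X 1)) = (0 : A) from
      X_dvd_iff.mp ((dvd_mul_left (X 1) (X 0)).mul_left c) _ (by simp),
    show coeff (Finsupp.single 0 1) (X 1 * p) = (0 : A) from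
      X_dvd_iff.mp (dvd_mul_right (X 1) p) _ (by simp),
    zero_add, show coeff (Finsupp.single 0 1) (X 0 * q) = constantCoeff q from by
      rw [show (X 0 : MvPowerSeries (Fin 2) A) = monomial (Finsupp.single 0 1) 1 from rfl]
      rw [coeff_monomial_mul, if_pos le_rfl, tsub_self, one_mul]
      rfl] at e
  rw [← e, zero_sub]
  exact neg_mem (Ideal.mul_mem_right _ _ (Ideal.mem_span_singleton_self α))

theorem derIdeal_eq (α : A) : derIdeal (A := A) (Node α) = sing α := by
  refine le_antisymm ?_ ?_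
  · rw [derIdeal, Ideal.span_le]
    rintro _ ⟨D, b, rfl⟩
    obtain ⟨f, rfl⟩ := Ideal.Quotient.mk_surjective b
    obtain ⟨g, h, hgh⟩ := exists_decomp f
    have hX : ∀ i : Fin 2, (i = 0 ∨ i = 1) → Ideal.Quotient.mk (rel α) (X i) ∈ sing α := by
      rintro i (rfl | rfl)
      · exact Ideal.mem_map_of_mem _ (Ideal.subset_span (Or.inl rfl))
      · exact Ideal.mem_map_of_mem _ (Ideal.subset_span (Or.inr rfl))
    rw [hgh, map_add, map_add, map_add, map_add,
      show Ideal.Quotient.mk (rel α) (C (constantCoeff f)) = algebraMap A (Node α) (constantCoeff f)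
        from rfl, D.map_algebraMap, zero_add, map_mul (Ideal.Quotient.mk (rel α)), map_mul (Ideal.Quotient.mk (rel α)), D.leibniz, D.leibniz, smul_eq_mul,
      smul_eq_mul, smul_eq_mul, smul_eq_mul]
    exact add_mem (add_mem (Ideal.mul_mem_right _ _ (hX 0 (Or.inl rfl)))
        (Ideal.mul_mem_left _ _ (derivation_X_mem α D).1))
      (add_mem (Ideal.mul_mem_right _ _ (hX 1 (Or.inr rfl)))
        (Ideal.mul_mem_left _ _ (derivation_X_mem α D).2))
  · rw [sing, Ideal.map_span, Ideal.span_le]
    rintro _ ⟨z, hz, rfl⟩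
    have he : ∀ f, eulerNode α (Ideal.Quotient.mk (rel α) f) = Ideal.Quotient.mk (rel α) (euler f) :=
      fun f => Derivation.liftOfSurjective_apply (f := Ideal.Quotient.mkₐ A (rel α)) Ideal.Quotient.mk_surjective (d := euler) (fun x hx => Ideal.Quotient.eq_zero_iff_mem.mpr (euler_rel α x (Ideal.Quotient.eq_zero_iff_mem.mp hx))) f
    rcases hz with rfl | rfl
    · refine Ideal.subset_span ⟨eulerNode α, Ideal.Quotient.mk (rel α) (X 0), ?_⟩
      rw [he, euler_X0]
    · refine Ideal.subset_span ⟨eulerNode α, -Ideal.Quotient.mk (rel α) (X 1), ?_⟩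
      rw [map_neg, he, euler_X1, map_neg, neg_neg]

theorem algebraMap_mem_sing_iff (α a : A) :
    algebraMap A (Node α) a ∈ sing α ↔ a ∈ Ideal.span {α} := by
  refine ⟨fun h => ?_, fun h => ?_⟩
  · obtain ⟨f, hf, hfa⟩ := (Ideal.mem_map_iff_of_surjective _ Ideal.Quotient.mk_surjective).mp h
    have h0 : constantCoeff f = 0 := by
      refine (Ideal.span_le.mpr ?_ : Ideal.span {X 0, X 1} ≤ RingHom.ker (constantCoeff (σ := Fin 2) (R := A))) hf
      rintro _ (rfl | rfl) <;> simp
    have h1 : f - C a ∈ rel α := Ideal.Quotient.eq.mp hfa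
    obtain ⟨c, hc⟩ := Ideal.mem_span_singleton'.mp h1
    have e := congrArg constantCoeff hc
    simp only [map_mul, map_sub, h0, constantCoeff_C, constantCoeff_X, mul_zero, zero_sub] at e
    rw [← neg_neg a, ← e]
    simp only [mul_neg, neg_neg]
    exact Ideal.mul_mem_left _ _ (Ideal.mem_span_singleton_self α)
  · obtain ⟨r, rfl⟩ := Ideal.mem_span_singleton'.mp h
    rw [map_mul]
    exact Ideal.mul_mem_left _ _ (algebraMap_mem_sing α)

theorem span_le_of_algEquiv {α β : A} (φ : Node α ≃ₐ[A] Node β) :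
    Ideal.span {α} ≤ Ideal.span {β} := by
  rw [Ideal.span_singleton_le_iff_mem, ← algebraMap_mem_sing_iff, ← derIdeal_eq]
  have := derIdeal_le φ
  refine this ?_
  rw [derIdeal_eq, ← φ.toAlgHom.commutes]
  exact Ideal.mem_map_of_mem _ (algebraMap_mem_sing α)

end L02.CAlg.NodeInvariant
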