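import Mathlib.RingTheory.Norm.Defs
import Mathlib.RingTheory.Norm.Basic
import Mathlib.RingTheory.TensorProduct.Free
import Mathlib.RingTheory.IntegralClosure.IntegrallyClosed
import Mathlib.RingTheory.Polynomial.IsIntegral
import Mathlib.FieldTheory.IsAlgClosed.AlgebraicClosure
import Mathlib.RingTheory.Localization.FractionRing
import Mathlib.RingTheory.Flat.Basic
import Mathlib.LinearAlgebra.Matrix.Charpoly.Eigs
import Mathlib.LinearAlgebra.Matrix.Nondegenerate
import Mathlib.RingTheory.Algebraic.Integral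
import Groth.Agent.L03.McCoy

/-!
Norms of elements of `(integral closure) ⊗ R`.
-/

set_option autoImplicit false

universe u

open TensorProduct

namespace L02.CAlg.NormBC

/-- The determinant of a matrix killed by a monic polynomial over a subring is integral over it. -/
theorem isIntegralElem_det {R D : Type*} [CommRing R] [CommRing D] [IsDomain D] (f : R →+* D)
    {n : Type*} [Fintype n] [DecidableEq n] (M : Matrix n n D)
    (h : ((Matrix.scalar n).comp f).IsIntegralElem M) : f.IsIntegralElem M.det := by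
  obtain ⟨q, hq, hqM⟩ := h
  let Ω := AlgebraicClosure (FractionRing D)
  let j : D →+* Ω := algebraMap D Ω
  have hj : Function.Injective j := by
    show Function.Injective (algebraMap D Ω)
    rw [IsScalarTower.algebraMap_eq D (FractionRing D) Ω]
    exact (algebraMap (FractionRing D) Ω).injective.comp (IsFractionRing.injective D (FractionRing D))
  let M' := M.map j
  have hM' : q.eval₂ ((Matrix.scalar n).comp (j.comp f)) M' = 0 := by
    have := Polynomial.hom_eval₂ q ((Matrix.scalar n).comp f) j.mapMatrix M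
    rw [hqM, map_zero] at this
    rw [this]
    congr 1
    refine RingHom.ext fun r => ?_
    simp [Matrix.diagonal_map]
  letI : Algebra R D := f.toAlgebra
  letI : Algebra R Ω := (j.comp f).toAlgebra
  show IsIntegral R M.det
  suffices hd : IsIntegral R M'.det by
    let φ : D →ₐ[R] Ω := { toRingHom := j, commutes' := fun _ => rfl }
    refine (isIntegral_algHom_iff φ hj).mp ?_
    show IsIntegral R (j M.det)
    rwa [RingHom.map_det]
  rw [Matrix.det_eq_prod_roots_charpoly]
  refine IsIntegral.multiset_prod fun μ hμ => ⟨q, hq, ?_⟩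
  rw [Polynomial.mem_roots (Matrix.charpoly_monic M').ne_zero, Polynomial.IsRoot,
    Matrix.eval_charpoly] at hμ
  set Q := q.map (j.comp f)
  obtain ⟨T, hT⟩ := Polynomial.X_sub_C_dvd_sub_C_eval (p := Q) (a := μ)
  have e := congrArg (Polynomial.aeval M') hT
  rw [map_sub, map_mul, map_sub, Polynomial.aeval_X, Polynomial.aeval_C, Polynomial.aeval_C,
    Polynomial.aeval_def, Polynomial.eval₂_map,
    show (algebraMap Ω (Matrix n n Ω)).comp (j.comp f) = (Matrix.scalar n).comp (j.comp f) from rfl,
    hM', zero_sub] at e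
  have e2 := congrArg Matrix.det e
  rw [Matrix.det_mul, Matrix.det_neg, show (M' - algebraMap Ω (Matrix n n Ω) μ).det = 0 by
    rw [← neg_sub, Matrix.det_neg, show algebraMap Ω (Matrix n n Ω) μ = Matrix.scalar n μ from rfl, hμ,
      mul_zero], zero_mul, Matrix.algebraMap_eq_diagonal, Matrix.det_diagonal] at e2
  simp only [Algebra.algebraMap_self, RingHom.id_apply, Pi.algebraMap_apply, Finset.prod_const,
    mul_eq_zero, pow_eq_zero_iff', neg_eq_zero, one_ne_zero, false_and, false_or, or_false] at e2
  show Polynomial.eval₂ (j.comp f) μ q = 0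
  rw [Polynomial.eval₂_eq_eval_map]
  exact e2.1

/-- Regularity of a determinant from injectivity. -/
theorem det_mem_nonZeroDivisors_of_injective {R : Type u} [CommRing R] {m : ℕ} (M : Matrix (Fin m) (Fin m) R)
    (h : Function.Injective M.mulVec) : M.det ∈ nonZeroDivisors R := by
  rw [mem_nonZeroDivisors_iff_right]
  intro c hc
  have h' := (Groth.L03.McCoy.injective_iff M).mp h
  rw [← Submodule.mem_bot (R := R), ← h', Groth.L03.McCoy.mem_annihilator_minorIdeal]
  intro f g
  have e : M.submatrix f g = (1 : Matrix (Fin m) (Fin m) R).submatrix f id * M *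
      (1 : Matrix (Fin m) (Fin m) R).submatrix id g := by
    ext a b
    simp [Matrix.mul_apply, Matrix.one_apply]
  rw [e, Matrix.det_mul, Matrix.det_mul, ← mul_assoc, mul_left_comm, hc, mul_zero, zero_mul]

section

variable {k K L R : Type u} [Field k] [Field K] [Field L] [Algebra k K] [Algebra K L] [Algebra k L]
  [IsScalarTower k K L] [CommRing R] [Algebra k R] {ι : Type*} [Fintype ι] (b : Module.Basis ι K L)
  [Algebra (K ⊗[k] R) (L ⊗[k] R)]

/-- Coordinates on `L ⊗ R`. -/
noncomputable def coord (i : ι) : L ⊗[k] R →ₗ[k] K ⊗[k] R :=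
  LinearMap.rTensor R ((b.coord i).restrictScalars k)

theorem algebraMap_tmul (hT : algebraMap (K ⊗[k] R) (L ⊗[k] R) =
      (Algebra.TensorProduct.map (IsScalarTower.toAlgHom k K L) (AlgHom.id k R)).toRingHom) (c : K) (r : R) :
    algebraMap (K ⊗[k] R) (L ⊗[k] R) (c ⊗ₜ r) = algebraMap K L c ⊗ₜ r := by
  rw [hT]; rfl

theorem coord_smul (hT : algebraMap (K ⊗[k] R) (L ⊗[k] R) =
      (Algebra.TensorProduct.map (IsScalarTower.toAlgHom k K L) (AlgHom.id k R)).toRingHom)
    (i : ι) (s : K ⊗[k] R) (x : L ⊗[k] R) : coord b i (s • x) = s * coord b i x := by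
  induction s using TensorProduct.induction_on with
  | zero => simp
  | add s t hs ht => rw [add_smul, map_add, hs, ht, add_mul]
  | tmul c r =>
    induction x using TensorProduct.induction_on with
    | zero => simp
    | add x y hx hy => rw [smul_add, map_add, hx, hy, map_add, mul_add]
    | tmul l r' =>
      rw [Algebra.smul_def, algebraMap_tmul hT, Algebra.TensorProduct.tmul_mul_tmul, ← Algebra.smul_def]
      simp [coord, LinearMap.rTensor_tmul, Algebra.TensorProduct.tmul_mul_tmul]

/-- `L ⊗ R` with its basis over `K ⊗ R`. -/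
noncomputable def basis (hT : algebraMap (K ⊗[k] R) (L ⊗[k] R) =
      (Algebra.TensorProduct.map (IsScalarTower.toAlgHom k K L) (AlgHom.id k R)).toRingHom) :
    Module.Basis ι (K ⊗[k] R) (L ⊗[k] R) :=
  Module.Basis.ofEquivFun
    { toFun := fun x i => coord b i x
      map_add' := fun x y => funext fun i => map_add _ x y
      map_smul' := fun s x => funext fun i => coord_smul b hT i s x
      invFun := fun v => ∑ i, v i • (b i ⊗ₜ[k] (1 : R))
      left_inv := fun x => by
        induction x using TensorProduct.induction_on with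
        | zero => simp
        | add x y hx hy => simp only [map_add, add_smul, Finset.sum_add_distrib, hx, hy]
        | tmul l r =>
          have : ∀ i, coord b i (l ⊗ₜ r) • (b i ⊗ₜ[k] (1 : R)) = (b.repr l i • b i) ⊗ₜ r := fun i => by
            rw [show coord b i (l ⊗ₜ[k] r) = b.repr l i ⊗ₜ[k] r from rfl, Algebra.smul_def, algebraMap_tmul hT,
              Algebra.TensorProduct.tmul_mul_tmul, mul_one, Algebra.smul_def]
          show ∑ i, coord b i (l ⊗ₜ[k] r) • (b i ⊗ₜ[k] (1 : R)) = _
          rw [Finset.sum_congr rfl fun i _ => this i]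
          exact (TensorProduct.sum_tmul Finset.univ _ r).symm.trans (by rw [b.sum_repr])
      right_inv := fun v => by
        classical
        refine funext fun i => ?_
        show coord b i (∑ j, v j • (b j ⊗ₜ[k] (1 : R))) = v i
        rw [map_sum, Finset.sum_eq_single i (fun j _ hj => ?_) (fun h => absurd (Finset.mem_univ i) h)]
        · rw [coord_smul b hT, show coord b i (b i ⊗ₜ[k] (1 : R)) = b.repr (b i) i ⊗ₜ 1 from rfl,
            b.repr_self, Finsupp.single_eq_same, ← Algebra.TensorProduct.one_def, mul_one]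
        · rw [coord_smul b hT, show coord b i (b j ⊗ₜ[k] (1 : R)) = b.repr (b j) i ⊗ₜ 1 from rfl,
            b.repr_self, Finsupp.single_eq_of_ne (Ne.symm hj), TensorProduct.zero_tmul, mul_zero] }

theorem basis_repr (hT : algebraMap (K ⊗[k] R) (L ⊗[k] R) =
      (Algebra.TensorProduct.map (IsScalarTower.toAlgHom k K L) (AlgHom.id k R)).toRingHom)
    (x : L ⊗[k] R) (i : ι) : (basis b hT).repr x i = coord b i x := rfl

theorem basis_apply (hT : algebraMap (K ⊗[k] R) (L ⊗[k] R) =
      (Algebra.TensorProduct.map (IsScalarTower.toAlgHom k K L) (AlgHom.id k R)).toRingHom) (i : ι) :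
    basis b hT i = b i ⊗ₜ[k] (1 : R) := by
  classical
  rw [basis, Module.Basis.coe_ofEquivFun]
  show ∑ j, (Pi.single i (1 : K ⊗[k] R) : ι → K ⊗[k] R) j • (b j ⊗ₜ[k] (1 : R)) = _
  rw [Finset.sum_eq_single i (fun j _ hj => by rw [Pi.single_eq_of_ne hj, zero_smul])
    (fun h => absurd (Finset.mem_univ i) h), Pi.single_eq_same, one_smul]

theorem leftMulMatrix_tmul [DecidableEq ι] (hT : algebraMap (K ⊗[k] R) (L ⊗[k] R) =
      (Algebra.TensorProduct.map (IsScalarTower.toAlgHom k K L) (AlgHom.id k R)).toRingHom) (l : L) (r : R) :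
    Algebra.leftMulMatrix (basis b hT) (l ⊗ₜ r) = (Algebra.leftMulMatrix b l).map fun c => c ⊗ₜ r := by
  ext i j
  rw [Algebra.leftMulMatrix_eq_repr_mul, basis_repr, basis_apply, Algebra.TensorProduct.tmul_mul_tmul,
    mul_one, Matrix.map_apply, Algebra.leftMulMatrix_eq_repr_mul]
  rfl

end

theorem exists_sum_tmul {k B R : Type*} [CommSemiring k] [AddCommMonoid B] [Module k B] [AddCommMonoid R]
    [Module k R] (x : B ⊗[k] R) : ∃ (n : ℕ) (f : Fin n → B) (g : Fin n → R), x = ∑ i, f i ⊗ₜ g i := by
  induction x using TensorProduct.induction_on with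
  | zero => exact ⟨0, ![], ![], by simp⟩
  | tmul b r => exact ⟨1, ![b], ![r], by simp⟩
  | add x y hx hy =>
    obtain ⟨n, f, g, rfl⟩ := hx
    obtain ⟨m, f', g', rfl⟩ := hy
    exact ⟨n + m, Fin.append f f', Fin.append g g', by simp [Fin.sum_univ_add]⟩

attribute [local instance] MvPolynomial.algebraMvPolynomial in
/-- The generic norm has coefficients in `A`. -/
theorem exists_det_eq_map {A K L : Type u} [CommRing A] [IsDomain A] [IsIntegrallyClosed A] [Field K]
    [Algebra A K] [IsFractionRing A K] [Field L] [Algebra K L] [Algebra A L] [IsScalarTower A K L]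
    {ι : Type*} [Fintype ι] [DecidableEq ι] (b : Module.Basis ι K L) {s : ℕ} (f : Fin s → L)
    (hf : ∀ i, IsIntegral A (f i)) :
    ∃ P : MvPolynomial (Fin s) A, MvPolynomial.map (algebraMap A K) P =
      (∑ i, (MvPolynomial.X i : MvPolynomial (Fin s) K) •
        (Algebra.leftMulMatrix b (f i)).map (MvPolynomial.C : K →+* MvPolynomial (Fin s) K)).det := by
  let μ : L →ₐ[K] Matrix ι ι (MvPolynomial (Fin s) K) :=
    (Algebra.ofId K (MvPolynomial (Fin s) K)).mapMatrix.comp (Algebra.leftMulMatrix b)
  let sc : MvPolynomial (Fin s) K →ₐ[K] Matrix ι ι (MvPolynomial (Fin s) K) :=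
    (Algebra.ofId (MvPolynomial (Fin s) K) _).restrictScalars K
  let Φ : L ⊗[K] MvPolynomial (Fin s) K →ₐ[K] Matrix ι ι (MvPolynomial (Fin s) K) :=
    Algebra.TensorProduct.lift μ sc fun x y => (Algebra.commute_algebraMap_right y (μ x))
  let ι₂ : MvPolynomial (Fin s) K →ₐ[K] L ⊗[K] MvPolynomial (Fin s) K :=
    Algebra.TensorProduct.includeRight
  let m : MvPolynomial (Fin s) A →+* MvPolynomial (Fin s) K := MvPolynomial.map (algebraMap A K)
  let j : MvPolynomial (Fin s) A →+* L ⊗[K] MvPolynomial (Fin s) K := ι₂.toRingHom.comp m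
  have hj : ∀ a : A, j (MvPolynomial.C a) = algebraMap A L a ⊗ₜ[K] 1 := fun a => by
    simp only [j, m, ι₂, RingHom.comp_apply, MvPolynomial.map_C, AlgHom.toRingHom_eq_coe, RingHom.coe_coe,
      Algebra.TensorProduct.includeRight_apply]
    rw [← MvPolynomial.algebraMap_eq, Algebra.algebraMap_eq_smul_one, ← TensorProduct.smul_tmul,
      Algebra.smul_def, mul_one, ← IsScalarTower.algebraMap_apply]
  have hint : ∀ i, j.IsIntegralElem (f i ⊗ₜ[K] MvPolynomial.X i) := by
    intro i
    have h1 : j.IsIntegralElem (f i ⊗ₜ[K] (1 : MvPolynomial (Fin s) K)) := by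
      obtain ⟨p, hp, hpf⟩ := hf i
      refine ⟨p.map MvPolynomial.C, hp.map _, ?_⟩
      rw [Polynomial.eval₂_map]
      have e : j.comp MvPolynomial.C =
          (Algebra.TensorProduct.includeLeft : L →ₐ[K] L ⊗[K] MvPolynomial (Fin s) K).toRingHom.comp (algebraMap A L) :=
        RingHom.ext fun a => hj a
      rw [e, show f i ⊗ₜ[K] (1 : MvPolynomial (Fin s) K) =
        (Algebra.TensorProduct.includeLeft : L →ₐ[K] L ⊗[K] MvPolynomial (Fin s) K).toRingHom (f i) from rfl,
        ← Polynomial.hom_eval₂, hpf, map_zero]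
    have h2 : j.IsIntegralElem ((1 : L) ⊗ₜ[K] MvPolynomial.X i) := by
      have := j.isIntegralElem_map (x := MvPolynomial.X i)
      simpa [j, m, ι₂] using this
    simpa [Algebra.TensorProduct.tmul_mul_tmul] using h1.mul j h2
  have hsum : j.IsIntegralElem (∑ i, f i ⊗ₜ[K] MvPolynomial.X i) := by
    letI := j.toAlgebra
    exact IsIntegral.sum _ fun i _ => hint i
  obtain ⟨q, hq, hqe⟩ := hsum
  have hΦ : Φ (∑ i, f i ⊗ₜ[K] MvPolynomial.X i) = ∑ i, (MvPolynomial.X i : MvPolynomial (Fin s) K) •
      (Algebra.leftMulMatrix b (f i)).map (MvPolynomial.C : K →+* MvPolynomial (Fin s) K) := by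
    rw [map_sum]
    refine Finset.sum_congr rfl fun i _ => ?_
    rw [Algebra.TensorProduct.lift_tmul, Algebra.smul_def, Algebra.commutes]
    rfl
  have hdet := isIntegralElem_det m (M := Φ (∑ i, f i ⊗ₜ[K] MvPolynomial.X i)) ⟨q, hq, by
    have := Polynomial.hom_eval₂ q j Φ.toRingHom (∑ i, f i ⊗ₜ[K] MvPolynomial.X i)
    rw [hqe, map_zero] at this
    rw [this]
    congr 1
    refine RingHom.ext fun p => ?_
    show Matrix.scalar ι (m p) = Φ ((1 : L) ⊗ₜ[K] m p)
    rw [Algebra.TensorProduct.lift_tmul, map_one, one_mul]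
    rfl⟩
  rw [hΦ] at hdet
  have hI : IsIntegral (MvPolynomial (Fin s) A) (∑ i, (MvPolynomial.X i : MvPolynomial (Fin s) K) •
      (Algebra.leftMulMatrix b (f i)).map (MvPolynomial.C : K →+* MvPolynomial (Fin s) K)).det := hdet
  have hc := fun n => IsIntegrallyClosed.isIntegral_iff.mp (MvPolynomial.isIntegral_iff_isIntegral_coeff.mp hI n)
  refine MvPolynomial.mem_range_map_iff_coeffs_subset.mpr fun c hc' => ?_
  obtain ⟨n, -, rfl⟩ := MvPolynomial.mem_coeffs_iff.mp hc'
  exact hc n

end L02.CAlg.NormBC

namespace L02.CAlg.NormBC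

open scoped Classical in
theorem norm_baseChange (k A K L R : Type u) [Field k]
    [CommRing A] [IsDomain A] [IsIntegrallyClosed A] [Algebra k A]
    [Field K] [Algebra A K] [IsFractionRing A K] [Algebra k K] [IsScalarTower k A K]
    [Field L] [Algebra K L] [FiniteDimensional K L] [Algebra A L] [IsScalarTower A K L]
    [Algebra k L] [IsScalarTower k K L] [IsScalarTower k A L]
    [CommRing R] [Algebra k R] [Algebra (K ⊗[k] R) (L ⊗[k] R)]
    (hT : algebraMap (K ⊗[k] R) (L ⊗[k] R) =
      (Algebra.TensorProduct.map (IsScalarTower.toAlgHom k K L) (AlgHom.id k R)).toRingHom) :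
    Module.Free (K ⊗[k] R) (L ⊗[k] R) ∧ Module.Finite (K ⊗[k] R) (L ⊗[k] R) ∧
      ∀ β : (integralClosure A L) ⊗[k] R,
        Algebra.norm (K ⊗[k] R)
            (Algebra.TensorProduct.map ((integralClosure A L).val.restrictScalars k) (AlgHom.id k R) β) ∈
          Set.range (Algebra.TensorProduct.map (IsScalarTower.toAlgHom k A K) (AlgHom.id k R)) ∧
        (IsRegular β ↔ IsRegular (Algebra.norm (K ⊗[k] R)
            (Algebra.TensorProduct.map ((integralClosure A L).val.restrictScalars k) (AlgHom.id k R) β))) := by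
  let bL := Module.finBasis K L
  let bas := basis bL hT
  refine ⟨Module.Free.of_basis bas, Module.Finite.of_basis bas, fun β => ?_⟩
  let φ := Algebra.TensorProduct.map ((integralClosure A L).val.restrictScalars k) (AlgHom.id k R)
  let ψ := Algebra.TensorProduct.map (IsScalarTower.toAlgHom k A K) (AlgHom.id k R)
  rw [Algebra.norm_eq_matrix_det bas]
  set M := Algebra.leftMulMatrix bas (φ β)
  refine ⟨?_, ?_⟩
  · obtain ⟨n, f, g, rfl⟩ := exists_sum_tmul β
    obtain ⟨P, hP⟩ := exists_det_eq_map bL (fun i => (f i : L)) fun i => (f i).2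
    let ev : MvPolynomial (Fin n) K →ₐ[K] K ⊗[k] R := MvPolynomial.aeval fun i => (1 : K) ⊗ₜ g i
    have hM : M = (ev.toRingHom.mapMatrix) (∑ i, (MvPolynomial.X i : MvPolynomial (Fin n) K) •
        (Algebra.leftMulMatrix bL (f i : L)).map (MvPolynomial.C : K →+* MvPolynomial (Fin n) K)) := by
      simp only [M, φ, map_sum, Algebra.TensorProduct.map_tmul, AlgHom.coe_id, id_eq,
        AlgHom.coe_restrictScalars', Subalgebra.coe_val]
      refine Finset.sum_congr rfl fun i _ => ?_
      rw [leftMulMatrix_tmul bL hT]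
      ext a c
      simp [ev, Algebra.TensorProduct.tmul_mul_tmul]
    rw [hM, ← RingHom.map_det, ← hP]
    refine ⟨MvPolynomial.aeval (R := A) (fun i => (1 : A) ⊗ₜ[k] g i) P, ?_⟩
    have key : ψ.toRingHom.comp (MvPolynomial.aeval (R := A) fun i => (1 : A) ⊗ₜ[k] g i).toRingHom =
        ev.toRingHom.comp (MvPolynomial.map (algebraMap A K)) := by
      refine MvPolynomial.ringHom_ext (fun a => ?_) fun i => ?_
      · simp [ψ, ev, Algebra.TensorProduct.algebraMap_apply]
      · simp [ψ, ev]
    exact RingHom.congr_fun key P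
  · have hinj : Function.Injective φ := by
      show Function.Injective (TensorProduct.map ((integralClosure A L).val.restrictScalars k).toLinearMap
        (AlgHom.id k R).toLinearMap)
      exact Module.Flat.rTensor_preserves_injective_linearMap (M := R)
        ((integralClosure A L).val.restrictScalars k).toLinearMap Subtype.val_injective
    have hclear : ∀ z : L ⊗[k] R, ∃ a : A, a ≠ 0 ∧ ∃ w, φ w = (algebraMap A L a ⊗ₜ[k] (1 : R)) * z := by
      intro z
      induction z using TensorProduct.induction_on with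
      | zero => exact ⟨1, one_ne_zero, 0, by simp⟩
      | tmul l r =>
        haveI : Algebra.IsAlgebraic A L := (IsFractionRing.comap_isAlgebraic_iff (A := A) (K := K) (C := L)).mpr inferInstance
        obtain ⟨a, ha, hint⟩ := (Algebra.IsAlgebraic.isAlgebraic (R := A) l).exists_integral_multiple
        refine ⟨a, ha, (⟨a • l, hint⟩ : integralClosure A L) ⊗ₜ r, ?_⟩
        simp [φ, Algebra.TensorProduct.tmul_mul_tmul, Algebra.smul_def]
      | add z z' hz hz' =>
        obtain ⟨a, ha, w, hw⟩ := hz
        obtain ⟨a', ha', w', hw'⟩ := hz'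
        refine ⟨a * a', mul_ne_zero ha ha', algebraMap A _ a' ⊗ₜ[k] (1 : R) * w + algebraMap A _ a ⊗ₜ[k] (1 : R) * w', ?_⟩
        have e : ∀ c : A, φ (algebraMap A (integralClosure A L) c ⊗ₜ[k] (1 : R)) = algebraMap A L c ⊗ₜ 1 :=
          fun c => rfl
        rw [map_add, map_mul φ, map_mul φ, e, e, hw, hw', mul_add, ← mul_assoc, ← mul_assoc,
          Algebra.TensorProduct.tmul_mul_tmul, Algebra.TensorProduct.tmul_mul_tmul, ← map_mul, ← map_mul,
          mul_one, mul_comm a' a]
    have hML : ∀ z : L ⊗[k] R, M.mulVec (bas.repr z) = bas.repr (φ β * z) :=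
      fun z => Algebra.leftMulMatrix_mulVec_repr bas (φ β) z
    constructor
    · intro hβ
      rw [isRegular_iff_mem_nonZeroDivisors]
      refine det_mem_nonZeroDivisors_of_injective M fun v v' hvv => ?_
      obtain ⟨z, rfl⟩ : ∃ z, ⇑(bas.repr z) = v := ⟨bas.equivFun.symm v, bas.equivFun.apply_symm_apply v⟩
      obtain ⟨z', rfl⟩ : ∃ z', ⇑(bas.repr z') = v' := ⟨bas.equivFun.symm v', bas.equivFun.apply_symm_apply v'⟩
      rw [hML, hML] at hvv
      have h0 : φ β * (z - z') = 0 := by
        rw [mul_sub, sub_eq_zero]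
        exact bas.repr.injective (DFunLike.coe_injective hvv)
      obtain ⟨a, ha, w, hw⟩ := hclear (z - z')
      have h1 : φ (β * w) = φ (β * 0) := by rw [map_mul, hw, mul_left_comm, h0, mul_zero, mul_zero, map_zero]
      rw [hβ.left (hinj h1), map_zero] at hw
      have hu : IsUnit (algebraMap A L a ⊗ₜ[k] (1 : R)) := by
        have h2 : algebraMap A L a ≠ 0 := by
          rw [IsScalarTower.algebraMap_apply A K L]
          exact (map_ne_zero _).mpr ((map_ne_zero_iff _ (IsFractionRing.injective A K)).mpr ha)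
        exact (Ne.isUnit h2).map (Algebra.TensorProduct.includeLeft : L →ₐ[L] L ⊗[k] R)
      rw [sub_eq_zero.mp (hu.mul_right_eq_zero.mp hw.symm)]
    · intro hd
      suffices h : IsLeftRegular β from ⟨h, fun x y hxy => h (by simpa only [mul_comm β] using hxy)⟩
      refine fun x y hxy => hinj (bas.repr.injective (DFunLike.coe_injective ?_))
      refine Matrix.mulVec_injective_of_det_mem_nonZeroDivisors (M := M)
        (isRegular_iff_mem_nonZeroDivisors.mp hd) ?_
      rw [hML, hML, ← map_mul, ← map_mul]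
      exact congrArg (fun t => ⇑(bas.repr (φ t))) hxy

end L02.CAlg.NormBC
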