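import Mathlib.RingTheory.Regular.RegularSequence
import Mathlib.RingTheory.MvPolynomial.Basic
import Mathlib.Algebra.MvPolynomial.CommRing
import Mathlib.Tactic

/-!
All permutations of a sequence are regular iff `f_i X_i` is regular in the polynomial ring.
-/

set_option autoImplicit false

open RingTheory.Sequence MvPolynomial

namespace L02.CAlg.PermRegular

theorem isWeaklyRegular_ofFn_iff {A : Type*} [CommRing A] {r : ℕ} (g : Fin r → A) :
    IsWeaklyRegular A (List.ofFn g) ↔
      ∀ i : Fin r, ∀ a : A, g i * a ∈ Ideal.span (g '' {j | j < i}) → a ∈ Ideal.span (g '' {j | j < i}) := by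
  have hset : ∀ i : Fin r, {x | x ∈ (List.ofFn g).take i} = g '' {j | j < i} := by
    intro i
    ext x
    simp only [Set.mem_setOf_eq, List.mem_take_iff_getElem, List.getElem_ofFn, List.length_ofFn,
      Set.mem_image]
    constructor
    · rintro ⟨j, hj, rfl⟩
      exact ⟨⟨j, (lt_min_iff.mp hj).2⟩, (lt_min_iff.mp hj).1, rfl⟩
    · rintro ⟨j, hj, rfl⟩
      exact ⟨j, lt_min hj j.2, rfl⟩
  have hreg : ∀ (I : Ideal A) (c : A),
      IsSMulRegular (A ⧸ (I • ⊤ : Submodule A A)) c ↔ ∀ a, c * a ∈ I → a ∈ I := by
    intro I c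
    rw [isSMulRegular_iff_right_eq_zero_of_smul, (Submodule.mkQ_surjective _).forall]
    refine forall_congr' fun a => ?_
    rw [← map_smul]
    simp only [Submodule.mkQ_apply, Submodule.Quotient.mk_eq_zero, smul_eq_mul, Ideal.mul_top]
  rw [isWeaklyRegular_iff]
  constructor
  · intro h i
    have h1 := (hreg _ _).mp (h i (by simp))
    simp only [List.getElem_ofFn, Ideal.ofList, hset] at h1
    exact h1
  · intro h i hi
    rw [List.length_ofFn] at hi
    have h2 := h ⟨i, hi⟩
    rw [hreg, Ideal.ofList, List.getElem_ofFn, show {x | x ∈ (List.ofFn g).take i} = _ from hset ⟨i, hi⟩]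
    exact h2

theorem ofList_ofFn {A : Type*} [CommRing A] {r : ℕ} (g : Fin r → A) :
    Ideal.ofList (List.ofFn g) = Ideal.span (Set.range g) := by
  simp [Ideal.ofList, List.mem_ofFn', Set.range]

theorem top_ne_smul_iff {A : Type*} [CommRing A] {r : ℕ} (g : Fin r → A) :
    (⊤ : Submodule A A) ≠ Ideal.ofList (List.ofFn g) • ⊤ ↔ Ideal.span (Set.range g) ≠ ⊤ := by
  rw [smul_eq_mul, Ideal.mul_top, ofList_ofFn, ne_comm]

variable {R : Type*} [CommRing R] {r : ℕ}

/-- The two-element swap, iterated: regularity modulo all subsets from the increasing ones. -/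
theorem regular_mod_of_increasing (f : Fin r → R)
    (h : ∀ (i : Fin r) (T : Finset (Fin r)), (∀ j ∈ T, j < i) →
      ∀ a, f i * a ∈ Ideal.span (f '' T) → a ∈ Ideal.span (f '' T)) :
    ∀ (n : ℕ) (T : Finset (Fin r)), T.card = n → ∀ i ∉ T,
      ∀ a, f i * a ∈ Ideal.span (f '' T) → a ∈ Ideal.span (f '' T) := by
  intro n
  induction n with
  | zero =>
    intro T hT i _
    rw [Finset.card_eq_zero] at hT
    exact h i T (by simp [hT])
  | succ n ih =>
    intro T hT i hiT a ha
    by_cases hlt : ∀ j ∈ T, j < i
    · exact h i T hlt a ha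
    simp only [not_forall, not_lt] at hlt
    obtain ⟨j, hjT, hij⟩ := hlt
    set m := T.max' ⟨j, hjT⟩
    have hmT : m ∈ T := T.max'_mem _
    have him : i < m := lt_of_le_of_ne (hij.trans (T.le_max' j hjT)) fun e => hiT (e ▸ hmT)
    set T' := T.erase m with hT'
    have hins : (T : Set (Fin r)) = insert m (T' : Set (Fin r)) := by
      rw [hT', Finset.coe_erase, Set.insert_diff_singleton, Set.insert_eq_of_mem (Finset.mem_coe.mpr hmT)]
    rw [hins, Set.image_insert_eq, Ideal.mem_span_insert] at ha ⊢
    obtain ⟨b, z, hz, hb⟩ := ha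
    have hbT : b ∈ Ideal.span (f '' ↑(insert i T')) := by
      refine h m _ (fun k hk => ?_) b ?_
      · rcases Finset.mem_insert.mp hk with rfl | hk
        · exact him
        · exact lt_of_le_of_ne (T.le_max' k (Finset.mem_of_mem_erase hk)) (Finset.ne_of_mem_erase hk)
      · rw [Finset.coe_insert, Set.image_insert_eq, Ideal.mem_span_insert]
        refine ⟨a, -z, neg_mem hz, ?_⟩
        linear_combination -hb
    rw [Finset.coe_insert, Set.image_insert_eq, Ideal.mem_span_insert] at hbT
    obtain ⟨c, w, hw, hbw⟩ := hbT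
    refine ⟨c, a - c * f m, ?_, by ring⟩
    refine ih T' (by rw [hT', Finset.card_erase_of_mem hmT, hT]; rfl) i
      (fun hi => hiT (Finset.mem_of_mem_erase hi)) _ ?_
    rw [show f i * (a - c * f m) = w * f m + z by linear_combination hb + hbw * f m]
    exact add_mem (Ideal.mul_mem_right _ _ hw) hz

theorem mem_span_CX_iff (f : Fin r → R) (s : Set (Fin r)) (p : MvPolynomial (Fin r) R) :
    p ∈ Ideal.span ((fun i => C (f i) * X i) '' s) ↔
      ∀ a, coeff a p ∈ Ideal.span (f '' {j | j ∈ s ∧ a j ≠ 0}) := by
  classical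
  constructor
  · intro hp
    induction hp using Submodule.span_induction with
    | mem x hx =>
      obtain ⟨j, hj, rfl⟩ := hx
      intro a
      rw [coeff_C_mul, coeff_X]
      split
      · rename_i h
        rw [mul_one]
        exact Ideal.subset_span ⟨j, ⟨hj, by rw [← h]; simp⟩, rfl⟩
      · simp
    | zero => intro a; simp
    | add x y _ _ hx hy => intro a; rw [coeff_add]; exact add_mem (hx a) (hy a)
    | smul q x _ hx =>
      intro a
      rw [smul_eq_mul, coeff_mul]
      refine sum_mem fun uv huv => Ideal.mul_mem_left _ _ ?_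
      refine Ideal.span_mono (Set.image_mono ?_) (hx uv.2)
      rintro k ⟨hk, hk0⟩
      refine ⟨hk, ?_⟩
      rw [← Finset.mem_antidiagonal.mp huv, Finsupp.add_apply]
      omega
  · intro hp
    rw [p.as_sum]
    refine sum_mem fun a _ => ?_
    have : ∀ c ∈ Ideal.span (f '' {j | j ∈ s ∧ a j ≠ 0}),
        monomial a c ∈ Ideal.span ((fun i => C (f i) * X i) '' s) := by
      intro c hc
      induction hc using Submodule.span_induction with
      | mem x hx =>
        obtain ⟨j, ⟨hj, hj0⟩, rfl⟩ := hx
        have e : monomial a (f j) = monomial (a - Finsupp.single j 1) 1 * (C (f j) * X j) := by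
          rw [X, C_mul_monomial, mul_one, monomial_mul, one_mul,
            tsub_add_cancel_of_le (Finsupp.single_le_iff.mpr (Nat.one_le_iff_ne_zero.mpr hj0))]
        rw [e]
        exact Ideal.mul_mem_left _ _ (Ideal.subset_span ⟨j, hj, rfl⟩)
      | zero => simp
      | add x y _ _ hx hy => rw [map_add]; exact add_mem hx hy
      | smul q x _ hx =>
        rw [smul_eq_mul, ← C_mul_monomial]
        exact Ideal.mul_mem_left _ _ hx
    exact this _ (hp a)

theorem isRegular_perm_iff_polynomial (f : Fin r → R) (hf : Ideal.span (Set.range f) ≠ ⊤) :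
    (∀ σ : Equiv.Perm (Fin r), IsRegular R (List.ofFn (f ∘ σ))) ↔
      IsRegular (MvPolynomial (Fin r) R) (List.ofFn fun i => C (f i) * X i) := by
  classical
  constructor
  · intro h
    refine ⟨(isWeaklyRegular_ofFn_iff _).mpr fun i p hp => ?_, (top_ne_smul_iff _).mpr ?_⟩
    · rw [mem_span_CX_iff] at hp ⊢
      intro a
      set T : Finset (Fin r) := Finset.univ.filter fun j => j < i ∧ a j ≠ 0
      have hT : {j | j ∈ {j | j < i} ∧ a j ≠ 0} = (T : Set (Fin r)) := by ext j; simp [T]
      have h1 := hp (a + Finsupp.single i 1)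
      rw [mul_assoc, coeff_C_mul, mul_comm (X i), coeff_mul_X] at h1
      have hT' : {j | j ∈ {j | j < i} ∧ (a + Finsupp.single i 1 : Fin r →₀ ℕ) j ≠ 0} = (T : Set (Fin r)) := by
        ext j
        simp only [T, Set.mem_setOf_eq, Finset.coe_filter, Finset.mem_univ, true_and, Finsupp.add_apply]
        refine and_congr_right fun hj => ?_
        rw [Finsupp.single_eq_of_ne hj.ne, add_zero]
      rw [hT'] at h1
      rw [hT]
      -- a permutation starting with `T` followed by `i`
      have hiT : i ∉ T := by simp [T]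
      obtain ⟨σ, hσ⟩ : ∃ σ : Equiv.Perm (Fin r), σ '' {k : Fin r | (k : ℕ) < T.card} = (T : Set (Fin r)) ∧
          ∀ k : Fin r, (k : ℕ) = T.card → σ k = i := by
        have hc : T.card < r := by
          have := Finset.card_lt_univ_of_notMem hiT
          rwa [Fintype.card_fin] at this
        let e : Fin T.card ≃ T := T.equivFin.symm
        let p : Fin (T.card + 1) → Fin r := Fin.snoc (fun k => (e k : Fin r)) i
        have hp : Function.Injective p := by
          refine Fin.snoc_injective_iff.mpr ⟨fun k l hkl => e.injective (Subtype.ext hkl), ?_⟩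
          rintro ⟨k, hk⟩
          exact hiT (hk ▸ (e k).2)
        obtain ⟨σ, hσ⟩ := Equiv.Perm.exists_extending_pair (Fin.castLE (Nat.succ_le_of_lt hc)) p
          (Fin.castLE_injective _) hp
        refine ⟨σ, ?_, fun k hk => ?_⟩
        · ext j
          constructor
          · rintro ⟨k, hk, rfl⟩
            have := hσ ⟨k, Nat.lt_succ_of_lt hk⟩
            rw [show Fin.castLE _ (⟨k, _⟩ : Fin (T.card + 1)) = k from Fin.ext rfl] at this
            rw [this]
            show p (Fin.castSucc ⟨k, hk⟩) ∈ (T : Set (Fin r))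
            simp only [p, Fin.snoc_castSucc]
            exact (e _).2
          · intro hj
            refine ⟨Fin.castLE hc.le (e.symm ⟨j, hj⟩), (e.symm ⟨j, hj⟩).2, ?_⟩
            have := hσ (Fin.castSucc (e.symm ⟨j, hj⟩))
            simp only [p, Fin.snoc_castSucc, Equiv.apply_symm_apply] at this
            exact this
        · have := hσ (Fin.last _)
          simp only [p, Fin.snoc_last] at this
          rw [show k = Fin.castLE (Nat.succ_le_of_lt hc) (Fin.last T.card) from Fin.ext hk]
          exact this
      have hc : T.card < r := by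
        have := Finset.card_lt_univ_of_notMem hiT
        rwa [Fintype.card_fin] at this
      have h2 := (isWeaklyRegular_ofFn_iff _).mp (h σ).toIsWeaklyRegular ⟨T.card, hc⟩ (coeff a p)
      rw [Set.image_comp, Function.comp_apply, hσ.2 ⟨T.card, hc⟩ rfl,
        show σ '' {k : Fin r | k < ⟨T.card, hc⟩} = (T : Set (Fin r)) from hσ.1] at h2
      exact h2 h1
    · intro htop
      have h1 : (1 : MvPolynomial (Fin r) R) ∈ Ideal.span ((fun i => C (f i) * X i) '' Set.univ) := by
        rw [Set.image_univ, htop]; trivial
      have h2 := (mem_span_CX_iff f Set.univ 1).mp h1 0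
      rw [coeff_zero_one] at h2
      refine hf ((Ideal.eq_top_iff_one _).mpr (Ideal.span_mono ?_ h2))
      exact Set.image_subset_range _ _
  · intro h σ
    refine ⟨(isWeaklyRegular_ofFn_iff _).mpr fun i a ha => ?_, (top_ne_smul_iff _).mpr (by
      rwa [Set.range_comp, σ.surjective.range_eq, Set.image_univ])⟩
    have hinc : ∀ (i : Fin r) (T : Finset (Fin r)), (∀ j ∈ T, j < i) →
        ∀ a, f i * a ∈ Ideal.span (f '' T) → a ∈ Ideal.span (f '' T) := by
      intro i T hT a ha
      have hreg := (isWeaklyRegular_ofFn_iff _).mp h.toIsWeaklyRegular i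
      let u : Fin r →₀ ℕ := ∑ j ∈ T, Finsupp.single j 1
      have hu : ∀ j, u j ≠ 0 ↔ j ∈ T := by
        intro j
        simp [u, Finsupp.finsetSum_apply, Finsupp.single_apply]
      have h1 : monomial u a ∈ Ideal.span ((fun i => C (f i) * X i) '' {j | j < i}) := by
        refine hreg _ ?_
        rw [mem_span_CX_iff]
        intro b
        rw [X, C_mul_monomial, monomial_mul, coeff_monomial]
        split
        · rename_i hb
          rw [mul_one]
          refine Ideal.span_mono (Set.image_mono fun j hj => ?_) ha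
          refine ⟨hT j hj, ?_⟩
          rw [← hb, Finsupp.add_apply]
          have := (hu j).mpr hj
          omega
        · exact zero_mem _
      have h2 := (mem_span_CX_iff f _ _).mp h1 u
      rw [coeff_monomial, if_pos rfl] at h2
      refine Ideal.span_mono (Set.image_mono fun j hj => (hu j).mp hj.2) h2
    have hi := regular_mod_of_increasing f hinc _ ((Finset.univ.filter (· < i)).map σ.toEmbedding) rfl
      (σ i) (by simp) a
    rw [Finset.coe_map, Finset.coe_filter] at hi
    simp only [Finset.mem_univ, true_and, Equiv.coe_toEmbedding] at hi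
    rw [Set.image_comp] at ha ⊢
    exact hi ha

end L02.CAlg.PermRegular
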