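import Groth.Agent.L01.NoetherInt
import Groth.Agent.L22.AffineDim
import Mathlib.RingTheory.LocalRing.ResidueField.Ideal

/-!
Noether normalisation adapted to a prime ideal of a polynomial ring.
-/

set_option autoImplicit false
universe u

open MvPolynomial

namespace L02.CAlg.RefinedNN

variable {k : Type u} [Field k]

/-- The substitution with `X 0 ↦ f`. -/
noncomputable def sub {n : ℕ} (f : MvPolynomial (Fin (n + 1)) k) :
    MvPolynomial (Fin (n + 1)) k →ₐ[k] MvPolynomial (Fin (n + 1)) k :=
  aeval (Fin.cons f fun i : Fin n => X i.succ - X 0 ^ ((2 + f.totalDegree) ^ (i.succ : Fin (n + 1)).1))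

theorem sub_isIntegral {n : ℕ} (f : MvPolynomial (Fin (n + 1)) k) (hf : f ≠ 0) (hu : ¬ IsUnit f) :
    (sub f).toRingHom.IsIntegral := by
  set z : Fin (n + 1) → MvPolynomial (Fin (n + 1)) k :=
    Fin.cons (X 0) fun i => sub f (X i.succ) with hz
  let ι : MvPolynomial (Fin n) k →ₐ[k] MvPolynomial (Fin (n + 1)) k := rename Fin.succ
  let T := Groth.L01.NoetherInt.T f
  have hev : ∀ g, ((finSuccEquiv k n g).map ι.toRingHom).eval₂ (sub f).toRingHom (X 0) = aeval z g := by
    intro g
    induction g using MvPolynomial.induction_on with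
    | C a => simp [finSuccEquiv_apply, ι]
    | add p q hp hq => rw [map_add, Polynomial.map_add, Polynomial.eval₂_add, hp, hq, map_add]
    | mul_X p i hp =>
      rw [map_mul, Polynomial.map_mul, Polynomial.eval₂_mul, hp, map_mul, aeval_X]
      cases i using Fin.cases with
      | zero => simp [finSuccEquiv_X_zero, z]
      | succ j => simp [finSuccEquiv_X_succ, z, ι]
  have hT : aeval z (T f) = f := by
    have h : (aeval z).comp (Groth.L01.NoetherInt.T1 f 1) = AlgHom.id k _ := by
      refine algHom_ext fun i => ?_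
      cases i using Fin.cases with
      | zero => simp [z]
      | succ j => simp [z, sub]
    exact AlgHom.congr_fun h f
  have u := Groth.L01.NoetherInt.T_leadingcoeff_isUnit f hf
  set G := u.unit⁻¹ • finSuccEquiv k n (T f) with hG
  have hmonic : G.Monic := Polynomial.monic_of_isUnit_leadingCoeff_inv_smul u
  have hdeg : 0 < G.natDegree := by
    rw [Nat.pos_iff_ne_zero]
    intro h0
    have h1 := hmonic.natDegree_eq_zero.mp h0
    have h2 : IsUnit (finSuccEquiv k n (T f)) := by
      rw [hG, Units.smul_def, Polynomial.smul_eq_C_mul] at h1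
      exact IsUnit.of_mul_eq_one_right _ h1
    refine hu ?_
    have h3 := h2.map (finSuccEquiv k n).symm
    rw [AlgEquiv.symm_apply_apply] at h3
    have h4 := h3.map T.symm
    rwa [AlgEquiv.symm_apply_apply] at h4
  have hx0 : (sub f).toRingHom.IsIntegralElem (X 0) := by
    refine ⟨G.map ι.toRingHom - Polynomial.C (ι (↑u.unit⁻¹) * X 0), ?_, ?_⟩
    · refine (hmonic.map _).sub_of_left (lt_of_le_of_lt Polynomial.degree_C_le ?_)
      rw [hmonic.degree_map]
      exact Polynomial.natDegree_pos_iff_degree_pos.mp hdeg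
    · rw [Polynomial.eval₂_sub, Polynomial.eval₂_C, hG, Units.smul_def, Polynomial.smul_eq_C_mul,
        Polynomial.map_mul, Polynomial.eval₂_mul, hev, hT, Polynomial.map_C, Polynomial.eval₂_C, map_mul]
      have : (sub f).toRingHom (X 0) = f := by simp [sub]
      rw [this]
      exact sub_self _
  intro b
  induction b using MvPolynomial.induction_on with
  | C a =>
    have : (C a : MvPolynomial (Fin (n + 1)) k) = (sub f).toRingHom (C a) := by simp [sub]
    rw [this]
    exact (sub f).toRingHom.isIntegralElem_map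
  | add p q hp hq => exact RingHom.IsIntegralElem.add _ hp hq
  | mul_X p i hp =>
    refine RingHom.IsIntegralElem.mul _ hp ?_
    cases i using Fin.cases with
    | zero => exact hx0
    | succ j =>
      have : (X j.succ : MvPolynomial (Fin (n + 1)) k) =
          (sub f).toRingHom (X j.succ) + X 0 ^ ((2 + f.totalDegree) ^ (j.succ : Fin (n + 1)).1) := by
        simp [sub]
      rw [this]
      refine RingHom.IsIntegralElem.add _ (sub f).toRingHom.isIntegralElem_map ?_
      generalize ((2 + f.totalDegree) ^ (j.succ : Fin (n + 1)).1) = e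
      induction e with
      | zero => rw [pow_zero]; exact RingHom.isIntegralElem_one _
      | succ e he => rw [pow_succ]; exact RingHom.IsIntegralElem.mul _ he hx0

/-- A self map of the polynomial ring with a prescribed preimage of the prime. -/
theorem exists_coord : ∀ (n : ℕ) (q : Ideal (MvPolynomial (Fin n) k)), q.IsPrime →
    ∃ s ≤ n, ∃ φ : MvPolynomial (Fin n) k →ₐ[k] MvPolynomial (Fin n) k, φ.toRingHom.IsIntegral ∧
      q.comap φ = Ideal.span (X '' {i : Fin n | (i : ℕ) < s}) := by
  intro n
  induction n with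
  | zero =>
    intro q hq
    refine ⟨0, le_rfl, AlgHom.id k _, RingHom.isIntegral_of_surjective _ Function.surjective_id, ?_⟩
    have : q = ⊥ := by
      rw [eq_bot_iff]
      intro a ha
      by_contra ha0
      rw [Submodule.mem_bot] at ha0
      refine hq.ne_top (Ideal.eq_top_of_isUnit_mem _ ha ?_)
      rw [eq_C_of_isEmpty a] at ha0 ⊢
      exact (isUnit_iff_ne_zero.mpr (fun h => ha0 (by rw [h, map_zero]))).map _
    subst this
    rw [Ideal.comap_bot_of_injective _ Function.injective_id]
    simp
  | succ d hd =>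
    intro q hq
    by_cases hbot : q = ⊥
    · subst hbot
      refine ⟨0, Nat.zero_le _, AlgHom.id k _, RingHom.isIntegral_of_surjective _ Function.surjective_id, ?_⟩
      rw [Ideal.comap_bot_of_injective _ Function.injective_id]
      simp
    obtain ⟨f, fq, hf⟩ := Submodule.exists_mem_ne_zero_of_ne_bot hbot
    have hu : ¬ IsUnit f := fun h => hq.ne_top (Ideal.eq_top_of_isUnit_mem _ fq h)
    obtain ⟨σ, hσ, hσ0⟩ : ∃ σ : MvPolynomial (Fin (d + 1)) k →ₐ[k] MvPolynomial (Fin (d + 1)) k,
        σ.toRingHom.IsIntegral ∧ σ (X 0) = f :=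
      ⟨sub f, sub_isIntegral f hf hu, by simp [sub]⟩
    obtain ⟨q₁, hq₁⟩ : ∃ q₁ : Ideal (MvPolynomial (Fin (d + 1)) k), q₁ = q.comap σ := ⟨_, rfl⟩
    haveI : q₁.IsPrime := hq₁ ▸ Ideal.comap_isPrime _ q
    have hX0 : (X 0 : MvPolynomial (Fin (d + 1)) k) ∈ q₁ := by
      rw [hq₁, Ideal.mem_comap, hσ0]
      exact fq
    obtain ⟨ι, hιX⟩ : ∃ ι : MvPolynomial (Fin d) k →ₐ[k] MvPolynomial (Fin (d + 1)) k,
        ∀ j, ι (X j) = X j.succ := ⟨rename Fin.succ, fun j => by simp⟩
    obtain ⟨s, hs, φ, hφ, hφq⟩ := hd (q₁.comap ι) (Ideal.comap_isPrime _ _)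
    obtain ⟨φ', hφ0, hφS⟩ : ∃ φ' : MvPolynomial (Fin (d + 1)) k →ₐ[k] MvPolynomial (Fin (d + 1)) k,
        φ' (X 0) = X 0 ∧ ∀ j : Fin d, φ' (X j.succ) = ι (φ (X j)) :=
      ⟨aeval (Fin.cons (X 0) fun i => ι (φ (X i))), by simp, fun j => by simp⟩
    have hι : φ'.comp ι = ι.comp φ := algHom_ext fun i => by simp [hιX, hφS]
    have hι' : ∀ x, φ' (ι x) = ι (φ x) := fun x => AlgHom.congr_fun hι x
    have hφ' : φ'.toRingHom.IsIntegral := by
      intro b
      induction b using MvPolynomial.induction_on with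
      | C a =>
        have : (C a : MvPolynomial (Fin (d + 1)) k) = φ'.toRingHom (C a) := (φ'.commutes a).symm
        rw [this]
        exact φ'.toRingHom.isIntegralElem_map
      | add p q hp hq => exact RingHom.IsIntegralElem.add _ hp hq
      | mul_X p i hp =>
        refine RingHom.IsIntegralElem.mul _ hp ?_
        cases i using Fin.cases with
        | zero =>
          have : (X 0 : MvPolynomial (Fin (d + 1)) k) = φ'.toRingHom (X 0) := hφ0.symm
          rw [this]
          exact φ'.toRingHom.isIntegralElem_map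
        | succ j =>
          obtain ⟨P, hP, hPe⟩ := hφ (X j)
          refine ⟨P.map ι.toRingHom, hP.map _, ?_⟩
          have hc : φ'.toRingHom.comp ι.toRingHom = ι.toRingHom.comp φ.toRingHom :=
            RingHom.ext hι'
          rw [Polynomial.eval₂_map, hc,
            show (X j.succ : MvPolynomial (Fin (d + 1)) k) = ι.toRingHom (X j) from (hιX j).symm,
            ← Polynomial.hom_eval₂, hPe, map_zero]
    refine ⟨s + 1, Nat.succ_le_succ hs, σ.comp φ', RingHom.IsIntegral.trans _ _ hφ' hσ, ?_⟩
    rw [show q.comap (σ.comp φ') = q₁.comap φ' by rw [hq₁]; exact (Ideal.comap_comap _ _).symm]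
    apply le_antisymm
    · intro p hp
      have hdec : ∀ p : MvPolynomial (Fin (d + 1)) k,
          p - ι (aeval (Fin.cons 0 X : Fin (d + 1) → MvPolynomial (Fin d) k) p) ∈ Ideal.span {(X 0 : MvPolynomial (Fin (d + 1)) k)} := by
        intro p
        induction p using MvPolynomial.induction_on with
        | C a => simp [← algebraMap_eq]
        | add p q hp hq =>
          rw [map_add, map_add, add_sub_add_comm]
          exact add_mem hp hq
        | mul_X p i hp =>
          rw [map_mul, map_mul, aeval_X]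
          cases i using Fin.cases with
          | zero => simpa using Ideal.mul_mem_left _ p (Ideal.mem_span_singleton_self (X 0))
          | succ j =>
            rw [Fin.cons_succ, hιX, ← sub_mul]
            exact Ideal.mul_mem_right _ _ hp
      set p₀ := aeval (Fin.cons 0 X : Fin (d + 1) → MvPolynomial (Fin d) k) p
      have hle : Ideal.span {(X 0 : MvPolynomial (Fin (d + 1)) k)} ≤
          Ideal.span (X '' {i : Fin (d + 1) | (i : ℕ) < s + 1}) := by
        rw [Ideal.span_le, Set.singleton_subset_iff]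
        exact Ideal.subset_span ⟨0, Nat.succ_pos _, rfl⟩
      have h1 : φ' (p - ι p₀) ∈ q₁ := by
        obtain ⟨c, hc⟩ := Ideal.mem_span_singleton'.mp (hdec p)
        rw [← hc, map_mul]
        refine Ideal.mul_mem_left _ _ ?_
        rw [hφ0]; exact hX0
      have h2 : p₀ ∈ (q₁.comap ι).comap φ := by
        rw [Ideal.mem_comap, Ideal.mem_comap]
        rw [← hι', show φ' (ι p₀) = φ' p - φ' (p - ι p₀) by rw [map_sub, sub_sub_cancel]]
        exact sub_mem hp h1
      rw [hφq] at h2
      have h3 : ι p₀ ∈ Ideal.span (X '' {i : Fin (d + 1) | (i : ℕ) < s + 1}) := by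
        have h4 := Ideal.mem_map_of_mem ι h2
        rw [Ideal.map_span] at h4
        refine Ideal.span_mono ?_ h4
        rintro _ ⟨_, ⟨i, hi, rfl⟩, rfl⟩
        exact ⟨i.succ, by simpa using hi, (hιX i).symm⟩
      have := add_mem h3 (hle (hdec p))
      rwa [add_sub_cancel] at this
    · rw [Ideal.span_le]
      rintro _ ⟨i, hi, rfl⟩
      rw [SetLike.mem_coe, Ideal.mem_comap]
      cases i using Fin.cases with
      | zero => rw [hφ0]; exact hX0
      | succ j =>
        have h : (X j : MvPolynomial (Fin d) k) ∈ (q₁.comap ι).comap φ :=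
          hφq ▸ Ideal.subset_span ⟨j, by simpa using hi, rfl⟩
        rw [Ideal.mem_comap, Ideal.mem_comap] at h
        rw [hφS]
        exact h

theorem refined (n r : ℕ) (q : Ideal (MvPolynomial (Fin n) k)) [q.IsPrime]
    (hr : Algebra.trdeg k q.ResidueField = r) :
    ∃ φ : MvPolynomial (Fin n) k →ₐ[k] MvPolynomial (Fin n) k, φ.toRingHom.Finite ∧
      q.comap φ = Ideal.span (Set.range fun i : {i : Fin n // r ≤ (i : ℕ)} => X (i : Fin n)) := by
  obtain ⟨s, hs, φ, hφ, hφq⟩ := exists_coord n q inferInstance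
  let ρ : MvPolynomial (Fin n) k ≃ₐ[k] MvPolynomial (Fin n) k := renameEquiv k Fin.revPerm
  let ψ := φ.comp ρ.toAlgHom
  have hψ : ψ.toRingHom.IsIntegral :=
    RingHom.IsIntegral.trans _ _ (RingHom.isIntegral_of_surjective _ ρ.surjective) hφ
  have hψf : ψ.toRingHom.Finite := by
    refine hψ.to_finite ?_
    have : RingHom.FiniteType (algebraMap k (MvPolynomial (Fin n) k)) :=
      RingHom.finiteType_algebraMap.mpr inferInstance
    rw [← show ψ.toRingHom.comp (algebraMap k _) = algebraMap k _ from ψ.comp_algebraMap] at this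
    exact this.of_comp_finiteType
  have hcomap : q.comap ψ = Ideal.span (X '' {i : Fin n | n - s ≤ (i : ℕ)}) := by
    have h1 : (q.comap φ).comap ρ.toRingEquiv = q.comap ψ := rfl
    rw [← h1, hφq, ← Ideal.map_symm, Ideal.map_span]
    congr 1
    ext p
    constructor
    · rintro ⟨_, ⟨i, hi, rfl⟩, rfl⟩
      exact ⟨i.rev, by simp only [Set.mem_ofPred_eq, Fin.val_rev] at hi ⊢; omega, by simp [ρ]⟩
    · rintro ⟨i, hi, rfl⟩
      exact ⟨_, ⟨i.rev, by simp only [Set.mem_ofPred_eq, Fin.val_rev] at hi ⊢; omega, rfl⟩, by simp [ρ]⟩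
  refine ⟨ψ, hψf, ?_⟩
  suffices h : n - s = r by
    subst h
    rw [hcomap]
    congr 1
    ext p
    simp
  let m := n - s
  let π : MvPolynomial (Fin n) k →ₐ[k] MvPolynomial (Fin m) k :=
    aeval fun i => if h : (i : ℕ) < m then X ⟨i, h⟩ else 0
  let emb : MvPolynomial (Fin m) k →ₐ[k] MvPolynomial (Fin n) k := rename (Fin.castLE (by omega))
  let g : MvPolynomial (Fin m) k →ₐ[k] MvPolynomial (Fin n) k ⧸ q :=
    (Ideal.Quotient.mkₐ k q).comp (ψ.comp emb)
  have hπ : π.comp emb = AlgHom.id k _ := algHom_ext fun i => by simp [π, emb, i.2]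
  have hgπ : g.comp π = (Ideal.Quotient.mkₐ k q).comp ψ := algHom_ext fun i => by
    by_cases h : (i : ℕ) < m
    · simp [g, π, emb, h]
    · have : ψ (X i) ∈ q := by
        show (X i : MvPolynomial (Fin n) k) ∈ q.comap ψ
        rw [hcomap]
        exact Ideal.subset_span ⟨i, not_lt.mp h, rfl⟩
      simp [g, π, h, (Ideal.Quotient.eq_zero_iff_mem).mpr this]
  have hginj : Function.Injective g := by
    rw [injective_iff_map_eq_zero]
    intro p hp
    have h1 : emb p ∈ q.comap ψ := by
      have h0 : (Ideal.Quotient.mk q) (ψ (emb p)) = 0 := hp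
      exact Ideal.mem_comap.mpr (Ideal.Quotient.eq_zero_iff_mem.mp h0)
    rw [hcomap] at h1
    have h2 := Ideal.mem_map_of_mem π h1
    rw [Ideal.map_span, ← Set.image_comp, show π (emb p) = p from AlgHom.congr_fun hπ p] at h2
    have h3 : Ideal.span ((⇑π ∘ X) '' {i : Fin n | m ≤ (i : ℕ)}) = ⊥ := by
      rw [Ideal.span_eq_bot]
      rintro _ ⟨i, hi, rfl⟩
      simp [π, not_lt.mpr (show m ≤ (i : ℕ) from hi)]
    rwa [h3, Ideal.mem_bot] at h2
  have hgint : g.toRingHom.IsIntegral := by
    have h : (g.toRingHom.comp π.toRingHom).IsIntegral := by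
      rw [show g.toRingHom.comp π.toRingHom = (Ideal.Quotient.mk q).comp ψ.toRingHom from
        congrArg AlgHom.toRingHom hgπ]
      exact RingHom.IsIntegral.trans _ _ hψ (RingHom.isIntegral_of_surjective _ Ideal.Quotient.mk_surjective)
    exact h.tower_top _ _
  have htr := Groth.L22.AffineDim.trdeg_eq_of_isIntegral k g hginj hgint
  let A := MvPolynomial (Fin n) k ⧸ q
  haveI : Algebra.IsAlgebraic A q.ResidueField := IsLocalization.isAlgebraic _ (nonZeroDivisors A)
  haveI : FaithfulSMul k A :=
    (faithfulSMul_iff_algebraMap_injective _ _).2 (algebraMap k A).injective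
  haveI : FaithfulSMul A q.ResidueField :=
    (faithfulSMul_iff_algebraMap_injective _ _).2 (IsFractionRing.injective A _)
  rw [← trdeg_add_eq k A (A := q.ResidueField), htr, trdeg_eq_zero (R := A), add_zero] at hr
  exact_mod_cast hr

end L02.CAlg.RefinedNN
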