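import Groth.Agent.L06.FormSmoothGeom
import Groth.Agent.L06.FormSmoothField2
import Groth.Agent.L05.WE.Fibre
import Mathlib.RingTheory.Unramified.Field

/-!
# Regular homomorphisms along ind-étale maps

If `A → B → C` with `A → B` ind-étale, `B → C` flat and `A → C` regular, then `B → C` is regular.
-/

set_option maxSynthPendingDepth 3
set_option linter.style.haveILetI false

open TensorProduct IsLocalRing

namespace Groth.L02.RegularDescend

universe u

/-- Adic formal smoothness ascends along a formally unramified map of bases. -/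
theorem adicSmooth_of_formallyUnramified {k L S : Type u} [CommRing k] [CommRing L] [CommRing S]
    [Algebra k L] [Algebra L S] [Algebra k S] [IsScalarTower k L S] [Algebra.FormallyUnramified k L]
    {n : Ideal S} (h : CAlgX.IsAdicFormallySmooth k S n) : CAlgX.IsAdicFormallySmooth L S n := by
  intro T _ _ J hJ ψ hψ
  letI : Algebra k T := ((algebraMap L T).comp (algebraMap k L)).toAlgebra
  haveI : IsScalarTower k L T := IsScalarTower.of_algebraMap_eq' rfl
  obtain ⟨N, hN⟩ := hψ
  obtain ⟨χ, hχ⟩ := h T J hJ (ψ.restrictScalars k) ⟨N, hN⟩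
  have key : χ.comp (IsScalarTower.toAlgHom k L S) = IsScalarTower.toAlgHom k L T := by
    refine Algebra.FormallyUnramified.ext (I := J) ⟨2, hJ⟩ fun l => ?_
    exact (DFunLike.congr_fun hχ (algebraMap L S l)).trans (ψ.commutes l)
  exact ⟨{ χ.toRingHom with commutes' := fun l => DFunLike.congr_fun key l },
    AlgHom.ext fun x => DFunLike.congr_fun hχ x⟩

/-- Geometric regularity can be checked on local rings. -/
theorem geomReg_of_localization {L F : Type u} [Field L] [CommRing F] [IsNoetherianRing F]
    [Algebra L F]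
    (h : ∀ (P : Ideal F) [P.IsPrime], CAlg.IsGeometricallyRegular L (Localization.AtPrime P)) :
    CAlg.IsGeometricallyRegular L F := by
  intro k' _ _ hk'
  haveI := hk'
  let T := F ⊗[L] k'
  suffices IsRegularRing T from
    IsRegularRing.of_ringEquiv (Algebra.TensorProduct.comm L F k').toRingEquiv
  haveI : IsNoetherianRing T := IsNoetherianRing.of_finite F T
  refine isRegularRing_iff.2 fun Q hQ => ?_
  haveI := hQ
  let P := Q.comap (algebraMap F T)
  let FP := Localization.AtPrime P
  haveI := h P k' hk'
  haveI : IsRegularRing (T ⊗[F] FP) := IsRegularRing.of_ringEquiv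
    (((Algebra.TensorProduct.comm F T FP).toRingEquiv.trans
      (Algebra.TensorProduct.cancelBaseChange L F F FP k').toRingEquiv).trans
        (Algebra.TensorProduct.comm L FP k').toRingEquiv).symm
  let M := Algebra.algebraMapSubmonoid T P.primeCompl
  haveI : IsLocalization M (T ⊗[F] FP) := IsLocalization.tensor (R := F) (S := T) FP P.primeCompl
  have hd : Disjoint (M : Set T) Q := by
    rw [Set.disjoint_left]
    rintro _ ⟨x, hx, rfl⟩ hxQ
    exact hx hxQ
  let Q' := Q.map (algebraMap T (T ⊗[F] FP))
  haveI : Q'.IsPrime := IsLocalization.isPrime_of_isPrime_disjoint M _ Q hQ hd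
  have hQ' : Q'.comap (algebraMap T (T ⊗[F] FP)) = Q :=
    IsLocalization.under_map_of_isPrime_disjoint M _ hQ hd
  haveI : IsRegularLocalRing (Localization.AtPrime Q') :=
    IsRegularRing.isRegularLocalRing_localization Q'
  haveI : IsLocalization.AtPrime (Localization.AtPrime Q') Q := by
    have := IsLocalization.isLocalization_isLocalization_atPrime_isLocalization M
      (Localization.AtPrime Q') Q'
    convert this using 2
    exact hQ'.symm
  exact IsRegularLocalRing.of_ringEquiv (IsLocalization.algEquiv Q.primeCompl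
    (Localization.AtPrime Q') (Localization.AtPrime Q)).toRingEquiv

/-- Geometric regularity ascends along a separable algebraic extension of the base field. -/
theorem geomReg_of_isSeparable {k L F : Type u} [Field k] [Field L] [Algebra k L]
    [Algebra.IsSeparable k L] [CommRing F] [IsNoetherianRing F] [Algebra L F] [Algebra k F]
    [IsScalarTower k L F] (h : CAlg.IsGeometricallyRegular k F) :
    CAlg.IsGeometricallyRegular L F := by
  haveI : Algebra.FormallyUnramified k L := Algebra.FormallyUnramified.of_isSeparable k L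
  refine geomReg_of_localization fun P _ => ?_
  have h1 := (Groth.L06.FormSmooth.adicSmooth_iff_geometricallyRegular k (Localization.AtPrime P)).mpr
    (Groth.L06.FormSmooth.isGeometricallyRegular_of_isLocalization h P.primeCompl
      (Localization.AtPrime P))
  exact (Groth.L06.FormSmooth.adicSmooth_iff_geometricallyRegular L (Localization.AtPrime P)).mp
    (adicSmooth_of_formallyUnramified h1)

/-- A fibre cut out of another by an idempotent. -/
theorem geomReg_factor {A B C k L : Type u} [CommRing A] [CommRing B] [CommRing C] [Field k]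
    [Field L] [Algebra A B] [Algebra B C] [Algebra A C] [IsScalarTower A B C] [Algebra A k]
    [Algebra A L] [Algebra k L] [IsScalarTower A k L] [Algebra B L] [IsScalarTower A B L]
    (hs : Function.Surjective (Algebra.TensorProduct.lift (Algebra.ofId k L)
      (IsScalarTower.toAlgHom A B L) fun _ _ => Commute.all _ _))
    (e : k ⊗[A] B) (he : IsIdempotentElem e)
    (hker : RingHom.ker (Algebra.TensorProduct.lift (Algebra.ofId k L)
      (IsScalarTower.toAlgHom A B L) fun _ _ => Commute.all _ _) = Ideal.span {e})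
    (h : CAlg.IsGeometricallyRegular k (k ⊗[A] C)) :
    CAlg.IsGeometricallyRegular k (L ⊗[B] C) := by
  let φ : k ⊗[A] B →ₐ[k] L := Algebra.TensorProduct.lift (Algebra.ofId k L)
    (IsScalarTower.toAlgHom A B L) fun _ _ => Commute.all _ _
  let inR : C →ₐ[A] L ⊗[B] C :=
    (Algebra.TensorProduct.includeRight : C →ₐ[B] L ⊗[B] C).restrictScalars A
  let ψ : k ⊗[A] C →ₐ[k] L ⊗[B] C := Algebra.TensorProduct.lift
    (Algebra.ofId k (L ⊗[B] C))
    inR fun _ _ => Commute.all _ _
  let μ : k ⊗[A] B →ₐ[k] k ⊗[A] C :=
    Algebra.TensorProduct.map (AlgHom.id k k) (IsScalarTower.toAlgHom A B C)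
  have hψμ : ∀ t, ψ (μ t) = φ t ⊗ₜ[B] 1 := by
    intro t
    induction t using TensorProduct.induction_on with
    | zero => simp
    | add a b ha hb => simp only [map_add, ha, hb, TensorProduct.add_tmul]
    | tmul a b =>
      simp only [μ, ψ, φ, inR, Algebra.TensorProduct.map_tmul, Algebra.TensorProduct.lift_tmul,
        AlgHom.coe_id, id_eq, IsScalarTower.coe_toAlgHom', AlgHom.restrictScalars_apply,
        Algebra.TensorProduct.includeRight_apply, Algebra.ofId_apply]
      rw [Algebra.TensorProduct.algebraMap_apply, Algebra.TensorProduct.tmul_mul_tmul]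
      simp only [Algebra.algebraMap_self, RingHom.id_apply, mul_one, one_mul]
      rw [Algebra.algebraMap_eq_smul_one (A := C), ← TensorProduct.smul_tmul, Algebra.smul_def,
        mul_comm]
  letI : Algebra (k ⊗[A] C) (L ⊗[B] C) := ψ.toRingHom.toAlgebra
  haveI : IsScalarTower k (k ⊗[A] C) (L ⊗[B] C) :=
    IsScalarTower.of_algebraMap_eq fun x => (ψ.commutes x).symm
  have hsurj : Function.Surjective ψ := by
    intro z
    induction z using TensorProduct.induction_on with
    | zero => exact ⟨0, map_zero _⟩
    | add a b ha hb =>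
      obtain ⟨a', rfl⟩ := ha
      obtain ⟨b', rfl⟩ := hb
      exact ⟨a' + b', map_add _ _ _⟩
    | tmul l c =>
      obtain ⟨t, rfl⟩ := hs l
      refine ⟨μ t * (1 ⊗ₜ c), ?_⟩
      rw [map_mul, hψμ]
      simp [ψ, φ, inR]
  have he' : IsIdempotentElem (μ e) := he.map μ
  have hφe : φ e = 0 := by
    rw [← RingHom.mem_ker]
    exact hker ▸ Ideal.mem_span_singleton_self e
  have hkerψ : RingHom.ker ψ = Ideal.span {μ e} := by
    refine le_antisymm ?_ (Ideal.span_le.mpr (Set.singleton_subset_iff.mpr ?_))
    · let Z := (k ⊗[A] C) ⧸ Ideal.span {μ e}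
      let π : k ⊗[A] C →+* Z := Ideal.Quotient.mk _
      letI : Algebra B Z := (π.comp ((Algebra.TensorProduct.includeRight : C →ₐ[A] k ⊗[A] C).toRingHom.comp
        (algebraMap B C))).toAlgebra
      have hle : RingHom.ker φ.toRingHom ≤ RingHom.ker (π.comp μ.toRingHom) := by
        intro t ht
        have ht' : t ∈ RingHom.ker φ := ht
        rw [hker, Ideal.mem_span_singleton'] at ht'
        obtain ⟨a, rfl⟩ := ht'
        show π (μ (a * e)) = 0
        rw [map_mul, Ideal.Quotient.eq_zero_iff_mem]
        exact Ideal.mul_mem_left _ _ (Ideal.mem_span_singleton_self _)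
      let g₀ : L →+* Z := φ.toRingHom.liftOfSurjective hs ⟨π.comp μ.toRingHom, hle⟩
      have hg₀ : ∀ t, g₀ (φ t) = π (μ t) := fun t =>
        RingHom.liftOfRightInverse_comp_apply _ _ _ ⟨π.comp μ.toRingHom, hle⟩ t
      let g : L →ₐ[B] Z := { g₀ with
        commutes' := fun b => by
          have : φ (1 ⊗ₜ b) = algebraMap B L b := by simp [φ]
          show g₀ (algebraMap B L b) = _
          rw [← this, hg₀]
          simp [μ]
          rfl }
      let inC : C →ₐ[B] Z :=
        { π.comp (Algebra.TensorProduct.includeRight : C →ₐ[A] k ⊗[A] C).toRingHom with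
          commutes' := fun b => rfl }
      let hh : L ⊗[B] C →ₐ[B] Z := Algebra.TensorProduct.lift g inC fun _ _ => Commute.all _ _
      have hhψ : ∀ x, hh (ψ x) = π x := by
        intro x
        induction x using TensorProduct.induction_on with
        | zero => simp
        | add a b ha hb => simp only [map_add, ha, hb]
        | tmul a c =>
          have h1 : ψ (a ⊗ₜ c) = φ (a ⊗ₜ 1) ⊗ₜ c := by simp [ψ, φ, inR]
          rw [h1]
          show g (φ (a ⊗ₜ 1)) * inC c = _
          rw [show g (φ (a ⊗ₜ 1)) = π (μ (a ⊗ₜ 1)) from hg₀ _]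
          show π _ * π _ = π _
          rw [← map_mul]
          simp [μ]
      intro x hx
      rw [← Ideal.Quotient.eq_zero_iff_mem]
      change π x = 0
      rw [← hhψ, show ψ x = 0 from hx, map_zero]
    · show ψ (μ e) = 0
      rw [hψμ, hφe, TensorProduct.zero_tmul]
  haveI : IsLocalization.Away (1 - μ e) (L ⊗[B] C) :=
    IsLocalization.away_of_isIdempotentElem he'.one_sub (by
      rw [sub_sub_cancel]; exact hkerψ) hsurj
  exact Groth.L06.FormSmooth.isGeometricallyRegular_of_isLocalization h
    (Submonoid.powers (1 - μ e)) _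

/-- `A → B` ind-étale, `A → C` regular, `B → C` flat: then `B → C` is regular. -/
theorem isRegularHom_of_indEtale {A B C : Type u} [CommRing A] [CommRing B] [CommRing C]
    [IsNoetherianRing B] [IsNoetherianRing C] [Algebra A B] [Algebra B C] [Algebra A C]
    [IsScalarTower A B C] [Module.Flat B C] (hB : EtPBC.IsIndEtale A B)
    (hC : CAlg.IsRegularHom A C) : CAlg.IsRegularHom B C := by
  refine ⟨inferInstance, fun Q _ => ?_⟩
  haveI hN : IsNoetherianRing (Q.Fiber C) := by
    haveI : IsNoetherianRing (C ⊗[B] Q.ResidueField) :=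
      Algebra.EssFiniteType.isNoetherianRing C (C ⊗[B] Q.ResidueField)
    exact isNoetherianRing_of_ringEquiv _ (Algebra.TensorProduct.comm B C Q.ResidueField).toRingEquiv
  refine ⟨hN, ?_⟩
  let p := Q.comap (algebraMap A B)
  letI : Algebra p.ResidueField Q.ResidueField :=
    (Ideal.ResidueField.map p Q (algebraMap A B) rfl).toAlgebra
  haveI : IsScalarTower A p.ResidueField Q.ResidueField := IsScalarTower.of_algebraMap_eq fun a => by
    rw [IsScalarTower.algebraMap_apply A B Q.ResidueField]
    exact (Ideal.ResidueField.map_algebraMap p Q (algebraMap A B) rfl a).symm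
  haveI := Groth.L27.IndEtale.weaklyEtale A B hB
  haveI : Algebra.IsSeparable p.ResidueField Q.ResidueField :=
    Groth.L05.WE.isSeparable_residueField_of_weaklyEtale p Q
  haveI := Groth.L27.IndEtale.weaklyEtale p.ResidueField (p.ResidueField ⊗[A] B)
    (Groth.L27.IndEtale.baseChange A B p.ResidueField hB)
  haveI : IsNoetherianRing (p.ResidueField ⊗[A] B) := by
    haveI : IsNoetherianRing (B ⊗[A] p.ResidueField) :=
      Algebra.EssFiniteType.isNoetherianRing B (B ⊗[A] p.ResidueField)
    exact isNoetherianRing_of_ringEquiv _ (Algebra.TensorProduct.comm A B p.ResidueField).toRingEquiv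
  let φ : p.ResidueField ⊗[A] B →ₐ[p.ResidueField] Q.ResidueField :=
    Algebra.TensorProduct.lift (Algebra.ofId _ _) (IsScalarTower.toAlgHom A B Q.ResidueField)
      fun _ _ => Commute.all _ _
  have hBr : ∀ b : B, φ (1 ⊗ₜ b) = algebraMap B Q.ResidueField b := fun b => by simp [φ]
  have hs : Function.Surjective φ := by
    intro x
    obtain ⟨a, ⟨s, hs⟩, rfl⟩ := IsLocalization.exists_mk'_eq (nonZeroDivisors (B ⧸ Q)) x
    obtain ⟨a, rfl⟩ := Ideal.Quotient.mk_surjective a
    obtain ⟨s, rfl⟩ := Ideal.Quotient.mk_surjective s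
    have h0 : φ (1 ⊗ₜ s) ≠ 0 := by
      rw [hBr, Ne, Ideal.algebraMap_residueField_eq_zero]
      exact fun hsQ => nonZeroDivisors.ne_zero hs (Ideal.Quotient.eq_zero_iff_mem.mpr hsQ)
    obtain ⟨c, hc⟩ := Groth.L05.WE.exists_mul_mul_eq p.ResidueField (p.ResidueField ⊗[A] B)
      ((1 : p.ResidueField) ⊗ₜ s)
    have h1 := congrArg φ hc
    rw [map_mul, map_mul, mul_assoc] at h1
    refine ⟨(1 ⊗ₜ a) * c, ?_⟩
    have h2 : φ (1 ⊗ₜ s) * φ c = 1 := mul_left_cancel₀ h0 (h1.trans (mul_one _).symm)
    rw [IsFractionRing.mk'_eq_div, map_mul, hBr]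
    show _ = algebraMap (B ⧸ Q) Q.ResidueField (Ideal.Quotient.mk Q a) /
      algebraMap (B ⧸ Q) Q.ResidueField (Ideal.Quotient.mk Q s)
    have hq : ∀ b : B, algebraMap (B ⧸ Q) Q.ResidueField (Ideal.Quotient.mk Q b) =
        algebraMap B Q.ResidueField b := fun b =>
      (IsScalarTower.algebraMap_apply B (B ⧸ Q) Q.ResidueField b).symm
    rw [hq, hq, eq_div_iff (by rw [← hBr]; exact h0), ← hBr s, mul_assoc, mul_comm (φ c), h2,
      mul_one]
  obtain ⟨e, he, hker⟩ := (Ideal.isIdempotentElem_iff_of_fg (RingHom.ker φ)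
    (IsNoetherian.noetherian _)).mp (le_antisymm Ideal.mul_le_left fun y hy => by
      obtain ⟨c, hc⟩ := Groth.L05.WE.exists_mul_mul_eq p.ResidueField (p.ResidueField ⊗[A] B) y
      rw [← hc, mul_assoc]
      exact Ideal.mul_mem_mul hy (Ideal.mul_mem_right _ _ hy))
  have h1 : CAlg.IsGeometricallyRegular p.ResidueField (Q.ResidueField ⊗[B] C) :=
    geomReg_factor hs e he (by rw [← Ideal.submodule_span_eq]; exact hker) (hC.2 p).2
  exact geomReg_of_isSeparable h1

end Groth.L02.RegularDescend
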