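import Mathlib.RingTheory.MvPowerSeries.Equiv
import Mathlib.RingTheory.Smooth.Basic
import Mathlib.RingTheory.Ideal.Cotangent
import Mathlib.RingTheory.AdicCompletion.RingHom
import Mathlib.Tactic

/-!
The completion of a formally smooth algebra along a section with free conormal module.
-/

set_option autoImplicit false

universe u

open MvPolynomial

namespace L02.CAlg.SectionCompletion

variable {R S : Type u} [CommRing R] [CommRing S] [Algebra R S] (σ : S →ₐ[R] R) {d : ℕ}
  (e : (RingHom.ker σ.toRingHom).Cotangent ≃ₗ[R] (Fin d → R))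

local notation "P" => MvPolynomial (Fin d) R
local notation "𝔍" => MvPolynomial.idealOfVars (Fin d) R
local notation "𝔎" => RingHom.ker σ.toRingHom

theorem sub_section_mem (s : S) : s - algebraMap R S (σ s) ∈ 𝔎 := by
  simp [RingHom.mem_ker]

/-- The conormal derivation. -/
noncomputable def der : S →ₗ[R] (Fin d → R) :=
  e.toLinearMap ∘ₗ ((𝔎).toCotangent.restrictScalars R) ∘ₗ
    ((LinearMap.id - Algebra.linearMap R S ∘ₗ σ.toLinearMap).codRestrict
      ((𝔎).restrictScalars R) (sub_section_mem σ) : S →ₗ[R] (𝔎).restrictScalars R)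

theorem der_apply (s : S) :
    der σ e s = e ((𝔎).toCotangent ⟨s - algebraMap R S (σ s), sub_section_mem σ s⟩) := rfl

theorem der_mul (s t : S) : der σ e (s * t) = σ s • der σ e t + σ t • der σ e s := by
  rw [der_apply, der_apply, der_apply, ← map_smul e, ← map_smul e, ← map_add e]
  congr 1
  rw [← algebraMap_smul S (σ s), ← algebraMap_smul S (σ t), ← map_smul, ← map_smul, ← map_add,
    Ideal.toCotangent_eq]
  have : s * t - algebraMap R S (σ (s * t)) -
      (algebraMap R S (σ s) * (t - algebraMap R S (σ t)) +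
        algebraMap R S (σ t) * (s - algebraMap R S (σ s))) =
      (s - algebraMap R S (σ s)) * (t - algebraMap R S (σ t)) := by
    rw [map_mul, map_mul]; ring
  show s * t - algebraMap R S (σ (s * t)) -
      (algebraMap R S (σ s) * (t - algebraMap R S (σ t)) +
        algebraMap R S (σ t) * (s - algebraMap R S (σ s))) ∈ (𝔎) ^ 2
  rw [this, pow_two]
  exact Ideal.mul_mem_mul (sub_section_mem σ s) (sub_section_mem σ t)

theorem der_algebraMap (r : R) : der σ e (algebraMap R S r) = 0 := by
  rw [der_apply, show (⟨algebraMap R S r - algebraMap R S (σ (algebraMap R S r)), sub_section_mem σ _⟩ : 𝔎) = 0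
    from Subtype.ext (by simp), map_zero, map_zero]

theorem X_mem (i : Fin d) : (X i : P) ∈ 𝔍 := by
  rw [MvPolynomial.idealOfVars]
  exact Ideal.subset_span ⟨i, rfl⟩

theorem sum_mul_X_mem (a : Fin d → R) : ∑ i, C (a i) * (X i : P) ∈ 𝔍 :=
  Ideal.sum_mem _ fun i _ => Ideal.mul_mem_left _ _ (X_mem i)

/-- The linear approximation `S → P/J²`. -/
noncomputable def toSq : S →ₐ[R] P ⧸ 𝔍 ^ 2 where
  toFun s := Ideal.Quotient.mk _ (C (σ s) + ∑ i, C (der σ e s i) * X i)
  map_one' := by
    have h : der σ e 1 = 0 := by simpa using der_algebraMap σ e 1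
    simp [h]
  map_zero' := by simp
  map_add' s t := by
    simp only [map_add, Pi.add_apply, add_mul, Finset.sum_add_distrib]
    ring
  map_mul' s t := by
    rw [← map_mul (Ideal.Quotient.mk (𝔍 ^ 2)), Ideal.Quotient.eq]
    have : C (σ (s * t)) + ∑ i, C (der σ e (s * t) i) * (X i : P) -
        (C (σ s) + ∑ i, C (der σ e s i) * X i) * (C (σ t) + ∑ i, C (der σ e t i) * X i) =
        -((∑ i, C (der σ e s i) * X i) * (∑ i, C (der σ e t i) * X i)) := by
      rw [der_mul]
      simp only [map_mul, Pi.add_apply, Pi.smul_apply, smul_eq_mul, map_add, add_mul,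
        Finset.sum_add_distrib, mul_assoc, ← Finset.mul_sum]
      ring
    rw [this, pow_two]
    exact Submodule.neg_mem _ (Ideal.mul_mem_mul (sum_mul_X_mem _) (sum_mul_X_mem _))
  commutes' r := by
    rw [σ.commutes, der_algebraMap σ e r]
    simp only [Pi.zero_apply, map_zero, zero_mul, Finset.sum_const_zero, add_zero]
    rfl

theorem exists_coord (i : Fin d) : ∃ x : 𝔎, e ((𝔎).toCotangent x) = Pi.single i 1 := by
  obtain ⟨x, hx⟩ := (𝔎).toCotangent_surjective (e.symm (Pi.single i 1))
  exact ⟨x, by rw [hx, e.apply_symm_apply]⟩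

/-- The map `P → S` given by lifts of a basis of the conormal module. -/
noncomputable def toS : P →ₐ[R] S := aeval fun i => ((exists_coord σ e i).choose : S)

theorem toS_X (i : Fin d) : toS σ e (X i) = ((exists_coord σ e i).choose : S) := aeval_X _ i

theorem map_pow_le (n : ℕ) : 𝔍 ^ n ≤ ((𝔎) ^ n).comap (toS σ e).toRingHom := by
  rw [← Ideal.map_le_iff_le_comap, Ideal.map_pow]
  refine Ideal.pow_right_mono ?_ n
  rw [MvPolynomial.idealOfVars, Ideal.map_span, Ideal.span_le]
  rintro _ ⟨_, ⟨i, rfl⟩, rfl⟩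
  show toS σ e (X i) ∈ 𝔎
  rw [toS_X]
  exact (exists_coord σ e i).choose.2

theorem toSq_toS_X (i : Fin d) : toSq σ e (toS σ e (X i)) = Ideal.Quotient.mk (𝔍 ^ 2) (X i) := by
  classical
  rw [toS_X]
  have h0 : σ ((exists_coord σ e i).choose : S) = 0 := RingHom.mem_ker.mp (exists_coord σ e i).choose.2
  have h1 : der σ e ((exists_coord σ e i).choose : S) = Pi.single i 1 := by
    rw [der_apply]
    refine Eq.trans ?_ (exists_coord σ e i).choose_spec
    congr 2
    exact Subtype.ext (show ((exists_coord σ e i).choose : S) - algebraMap R S (σ _) = _ by rw [h0, map_zero, sub_zero])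
  show Ideal.Quotient.mk _ (C (σ _) + ∑ j, C (der σ e _ j) * X j) = _
  rw [h0, h1]
  simp [Pi.single_apply, apply_ite C, ite_mul]

theorem exists_lift [Algebra.FormallySmooth R S] (n : ℕ) :
    ∃ ψ : S →ₐ[R] P ⧸ 𝔍 ^ (n + 2),
      (Ideal.Quotient.factorₐ R (Ideal.pow_le_pow_right (show 2 ≤ n + 2 by omega))).comp ψ =
        toSq σ e := by
  have hle : 𝔍 ^ (n + 2) ≤ 𝔍 ^ 2 := Ideal.pow_le_pow_right (by omega)
  refine ⟨_, Algebra.FormallySmooth.comp_liftOfSurjective (toSq σ e) (Ideal.Quotient.factorₐ R hle)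
    (Ideal.Quotient.factor_surjective hle) ⟨n + 2, ?_⟩⟩
  rw [show RingHom.ker (Ideal.Quotient.factorₐ R hle : P ⧸ 𝔍 ^ (n + 2) →+* P ⧸ 𝔍 ^ 2) =
      (𝔍 ^ 2).map (Ideal.Quotient.mk (𝔍 ^ (n + 2))) from Ideal.Quotient.factor_ker hle,
    ← Ideal.map_pow, ← pow_mul]
  exact Ideal.map_mk_eq_bot_of_le (Ideal.pow_le_pow_right (by omega))

theorem pow_succ_le (k : ℕ) : (𝔎) ^ k ≤ (𝔍 ^ k).map (toS σ e).toRingHom ⊔ (𝔎) ^ (k + 1) := by
  induction k with
  | zero =>
    intro s _
    rw [pow_zero, Ideal.one_eq_top, Ideal.map_top]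
    exact Ideal.mem_sup_left Submodule.mem_top
  | succ k ih =>
    have h1 : (𝔎 : Ideal S) ≤ (𝔍).map (toS σ e).toRingHom ⊔ (𝔎) ^ 2 := by
      intro s hs
      have hsum : s - ∑ i, algebraMap R S (e ((𝔎).toCotangent ⟨s, hs⟩) i) * toS σ e (X i) ∈
          (𝔎) ^ 2 := by
        have hy : (∑ i, e ((𝔎).toCotangent ⟨s, hs⟩) i • (exists_coord σ e i).choose : 𝔎).1 =
            ∑ i, algebraMap R S (e ((𝔎).toCotangent ⟨s, hs⟩) i) * toS σ e (X i) := by
          rw [Submodule.coe_sum]
          exact Finset.sum_congr rfl fun i _ => by rw [Submodule.coe_smul_of_tower, Algebra.smul_def, toS_X]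
        rw [← hy]
        refine (Ideal.toCotangent_eq _ (x := ⟨s, hs⟩)).mp (e.injective ?_)
        rw [map_sum, map_sum]
        simp only [LinearMap.map_smul_of_tower, map_smul, (exists_coord σ e _).choose_spec]
        exact pi_eq_sum_univ' _
      have hmem : ∑ i, algebraMap R S (e ((𝔎).toCotangent ⟨s, hs⟩) i) * toS σ e (X i) ∈
          (𝔍).map (toS σ e).toRingHom :=
        Ideal.sum_mem _ fun i _ => Ideal.mul_mem_left _ _ (Ideal.mem_map_of_mem _ (X_mem i))
      simpa using Submodule.add_mem_sup hmem hsum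
    calc (𝔎) ^ (k + 1) = (𝔎) ^ k * 𝔎 := pow_succ _ _
      _ ≤ ((𝔍 ^ k).map (toS σ e).toRingHom ⊔ (𝔎) ^ (k + 1)) * ((𝔍).map (toS σ e).toRingHom ⊔ (𝔎) ^ 2) :=
          Ideal.mul_mono ih h1
      _ ≤ _ := by
          rw [Ideal.sup_mul, Ideal.mul_sup, Ideal.mul_sup]
          have hJI : (𝔍).map (toS σ e).toRingHom ≤ (𝔎) := by
            simpa using Ideal.map_le_iff_le_comap.mpr (map_pow_le σ e 1)
          have hJk : (𝔍 ^ k).map (toS σ e).toRingHom ≤ (𝔎) ^ k :=
            Ideal.map_le_iff_le_comap.mpr (map_pow_le σ e k)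
          refine sup_le (sup_le ?_ ?_) (sup_le ?_ ?_)
          · rw [← Ideal.map_mul, ← pow_succ]
            exact le_sup_left
          · refine le_trans (Ideal.mul_mono hJk le_rfl) (le_trans ?_ le_sup_right)
            rw [← pow_add]
          · refine le_trans (Ideal.mul_mono le_rfl hJI) (le_trans ?_ le_sup_right)
            rw [← pow_succ]
          · refine le_trans ?_ le_sup_right
            rw [← pow_add]
            exact Ideal.pow_le_pow_right (by omega)

theorem exists_preimage (n : ℕ) (s : S) : ∃ p : P, s - toS σ e p ∈ (𝔎) ^ n := by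
  induction n with
  | zero => exact ⟨0, by simp⟩
  | succ n ih =>
    obtain ⟨p, hp⟩ := ih
    obtain ⟨u, hu, v, hv, huv⟩ := Submodule.mem_sup.mp (pow_succ_le σ e n hp)
    have hu' : ∃ q : P, u - toS σ e q ∈ (𝔎) ^ (n + 1) := by
      clear huv
      induction hu using Submodule.span_induction with
      | mem x hx =>
        obtain ⟨q, -, rfl⟩ := hx
        exact ⟨q, by simp⟩
      | zero => exact ⟨0, by simp⟩
      | add x y _ _ hx hy =>
        obtain ⟨q, hq⟩ := hx
        obtain ⟨q', hq'⟩ := hy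
        exact ⟨q + q', by rw [map_add, add_sub_add_comm]; exact add_mem hq hq'⟩
      | smul c x hxm hx =>
        obtain ⟨q, hq⟩ := hx
        refine ⟨C (σ c) * q, ?_⟩
        rw [smul_eq_mul, map_mul, show toS σ e (C (σ c)) = algebraMap R S (σ c) from aeval_C _ _,
          show c * x - algebraMap R S (σ c) * toS σ e q =
            (c - algebraMap R S (σ c)) * x + algebraMap R S (σ c) * (x - toS σ e q) by ring]
        refine add_mem ?_ (Ideal.mul_mem_left _ _ hq)
        rw [pow_succ']
        exact Ideal.mul_mem_mul (sub_section_mem σ c)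
          (Ideal.map_le_iff_le_comap.mpr (map_pow_le σ e n) hxm)
    obtain ⟨q, hq⟩ := hu'
    refine ⟨p + q, ?_⟩
    rw [map_add, ← sub_sub, ← huv, show u + v - toS σ e q = (u - toS σ e q) + v by ring]
    exact add_mem hq hv

theorem comap_pow_le [Algebra.FormallySmooth R S] (n : ℕ) :
    ((𝔎) ^ n).comap (toS σ e).toRingHom ≤ 𝔍 ^ n := by
  intro p hp
  obtain ⟨ψ, hψ⟩ := exists_lift σ e n
  have hI : (𝔎).map ψ.toRingHom ≤ (𝔍).map (Ideal.Quotient.mk (𝔍 ^ (n + 2))) := by
    refine Ideal.map_le_iff_le_comap.mpr fun s hs => ?_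
    obtain ⟨q, hq⟩ := Ideal.Quotient.mk_surjective (ψ s)
    have h2 := AlgHom.congr_fun hψ s
    rw [AlgHom.comp_apply, ← hq] at h2
    have h3 : q - (C (σ s) + ∑ i, C (der σ e s i) * X i) ∈ 𝔍 ^ 2 := Ideal.Quotient.eq.mp h2
    rw [show σ s = 0 from RingHom.mem_ker.mp hs, map_zero, zero_add] at h3
    show ψ s ∈ (𝔍).map (Ideal.Quotient.mk (𝔍 ^ (n + 2)))
    rw [← hq]
    refine Ideal.mem_map_of_mem _ ?_
    have := add_mem (Ideal.pow_le_self two_ne_zero h3) (sum_mul_X_mem (fun i => der σ e s i))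
    simpa using this
  let θ : P →ₐ[R] P ⧸ 𝔍 ^ (n + 2) := ψ.comp (toS σ e)
  have hθX : ∀ i, θ (X i) - Ideal.Quotient.mk _ (X i) ∈ (𝔍 ^ 2).map (Ideal.Quotient.mk (𝔍 ^ (n + 2))) := by
    intro i
    obtain ⟨q, hq⟩ := Ideal.Quotient.mk_surjective (θ (X i))
    have h2 := AlgHom.congr_fun hψ (toS σ e (X i))
    rw [AlgHom.comp_apply, show ψ (toS σ e (X i)) = θ (X i) from rfl, ← hq, toSq_toS_X] at h2
    rw [← hq, ← map_sub]
    exact Ideal.mem_map_of_mem _ (Ideal.Quotient.eq.mp h2)
  have hθJ : ∀ k, (𝔍 ^ k).map θ.toRingHom ≤ (𝔍 ^ k).map (Ideal.Quotient.mk (𝔍 ^ (n + 2))) := fun k => by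
    rw [Ideal.map_pow, Ideal.map_pow]
    refine Ideal.pow_right_mono (le_trans ?_ hI) k
    rw [show θ.toRingHom = ψ.toRingHom.comp (toS σ e).toRingHom from rfl, ← Ideal.map_map]
    exact Ideal.map_mono (by simpa using Ideal.map_le_iff_le_comap.mpr (map_pow_le σ e 1))
  have hgr : ∀ (k : ℕ) (q : P), q ∈ 𝔍 ^ k →
      θ q - Ideal.Quotient.mk _ q ∈ (𝔍 ^ (k + 1)).map (Ideal.Quotient.mk (𝔍 ^ (n + 2))) := by
    intro k
    induction k with
    | zero =>
      intro q hq
      clear hq
      rw [zero_add, pow_one]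
      induction q using MvPolynomial.induction_on with
      | C r =>
        rw [show θ (C r) = Ideal.Quotient.mk _ (C r) from θ.commutes r, sub_self]
        exact zero_mem _
      | add a b ha hb => rw [map_add, map_add, add_sub_add_comm]; exact add_mem ha hb
      | mul_X a i ha =>
        refine sub_mem ?_ (Ideal.mem_map_of_mem _ (Ideal.mul_mem_left _ _ (X_mem i)))
        have := hθJ 1 (Ideal.mem_map_of_mem θ.toRingHom (show a * X i ∈ 𝔍 ^ 1 by
          rw [pow_one]; exact Ideal.mul_mem_left _ _ (X_mem i)))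
        simpa using this
    | succ k ih =>
      intro q hq
      rw [pow_succ] at hq
      refine Submodule.mul_induction_on hq (fun a ha b hb => ?_) fun a b ha hb => ?_
      · have hb' : θ b - Ideal.Quotient.mk _ b ∈ (𝔍 ^ 2).map (Ideal.Quotient.mk (𝔍 ^ (n + 2))) := by
          rw [MvPolynomial.idealOfVars] at hb
          induction hb using Submodule.span_induction with
          | mem x hx => obtain ⟨i, rfl⟩ := hx; exact hθX i
          | zero => simp
          | add x y _ _ hx hy => rw [map_add, map_add, add_sub_add_comm]; exact add_mem hx hy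
          | smul c x hx' hx =>
            rw [smul_eq_mul, map_mul, map_mul,
              show θ c * θ x - Ideal.Quotient.mk _ c * Ideal.Quotient.mk _ x =
                (θ c - Ideal.Quotient.mk _ c) * θ x + Ideal.Quotient.mk _ c * (θ x - Ideal.Quotient.mk _ x) by ring]
            refine add_mem ?_ (Ideal.mul_mem_left _ _ hx)
            have h0 : θ c - Ideal.Quotient.mk _ c ∈ (𝔍).map (Ideal.Quotient.mk (𝔍 ^ (n + 2))) := by
              clear hx hx'
              induction c using MvPolynomial.induction_on with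
              | C r =>
                rw [show θ (C r) = Ideal.Quotient.mk _ (C r) from θ.commutes r, sub_self]
                exact zero_mem _
              | add a b ha hb => rw [map_add, map_add, add_sub_add_comm]; exact add_mem ha hb
              | mul_X a i ha =>
                refine sub_mem ?_ (Ideal.mem_map_of_mem _ (Ideal.mul_mem_left _ _ (X_mem i)))
                have := hθJ 1 (Ideal.mem_map_of_mem θ.toRingHom (show a * X i ∈ 𝔍 ^ 1 by
                  rw [pow_one]; exact Ideal.mul_mem_left _ _ (X_mem i)))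
                simpa using this
            have hx1 : θ x ∈ (𝔍).map (Ideal.Quotient.mk (𝔍 ^ (n + 2))) := by
              have := hθJ 1 (Ideal.mem_map_of_mem θ.toRingHom (show x ∈ 𝔍 ^ 1 by
                rw [pow_one, MvPolynomial.idealOfVars]; exact hx'))
              simpa using this
            rw [pow_two, Ideal.map_mul]
            exact Ideal.mul_mem_mul h0 hx1
        rw [map_mul, map_mul, show θ a * θ b - Ideal.Quotient.mk _ a * Ideal.Quotient.mk _ b =
          (θ a - Ideal.Quotient.mk _ a) * θ b + Ideal.Quotient.mk _ a * (θ b - Ideal.Quotient.mk _ b) by ring]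
        refine add_mem ?_ ?_
        · have h1 := Ideal.mul_mem_mul (ih a ha) (hθJ 1 (Ideal.mem_map_of_mem θ.toRingHom
            (show b ∈ 𝔍 ^ 1 by rwa [pow_one])))
          rw [← Ideal.map_mul, ← pow_add] at h1
          exact h1
        · have h1 := Ideal.mul_mem_mul (Ideal.mem_map_of_mem (Ideal.Quotient.mk (𝔍 ^ (n + 2))) ha) hb'
          rw [← Ideal.map_mul, ← pow_add] at h1
          exact h1
      · rw [map_add, map_add, add_sub_add_comm]
        exact add_mem ha hb
  have hθp : θ p ∈ (𝔍 ^ n).map (Ideal.Quotient.mk (𝔍 ^ (n + 2))) := by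
    rw [Ideal.map_pow]
    refine Ideal.pow_right_mono hI n ?_
    rw [← Ideal.map_pow]
    exact Ideal.mem_map_of_mem ψ.toRingHom hp
  have main : ∀ k ≤ n, p ∈ 𝔍 ^ k := by
    intro k hk
    induction k with
    | zero => simp
    | succ k ih =>
      have h1 := hgr k p (ih (by omega))
      have h2 : θ p ∈ (𝔍 ^ (k + 1)).map (Ideal.Quotient.mk (𝔍 ^ (n + 2))) :=
        Ideal.map_mono (Ideal.pow_le_pow_right (by omega)) hθp
      have h3 := sub_mem h2 h1
      rw [sub_sub_cancel, ← Ideal.mem_comap, Ideal.comap_map_of_surjective _ Ideal.Quotient.mk_surjective,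
        ← RingHom.ker_eq_comap_bot, Ideal.mk_ker,
        sup_eq_left.mpr (Ideal.pow_le_pow_right (show k + 1 ≤ n + 2 by omega))] at h3
      exact h3
  exact main n le_rfl

theorem factor_evalₐ {A : Type u} [CommRing A] (K : Ideal A) {m n : ℕ} (hle : m ≤ n)
    (x : AdicCompletion K A) :
    Ideal.Quotient.factor (Ideal.pow_le_pow_right hle) (AdicCompletion.evalₐ K n x) =
      AdicCompletion.evalₐ K m x := by
  induction x using AdicCompletion.induction_on with | _ f => ?_
  rw [AdicCompletion.evalₐ_mk, AdicCompletion.evalₐ_mk, Ideal.Quotient.factor_mk, Ideal.Quotient.eq]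
  have := (f.property hle).symm
  rw [SModEq.sub_mem] at this
  simpa using this

include e in
theorem nonempty_algEquiv [Algebra.FormallySmooth R S] :
    Nonempty (AdicCompletion (𝔎) S ≃ₐ[R] MvPowerSeries (Fin d) R) := by
  let f : (n : ℕ) → AdicCompletion (𝔍) P →ₐ[R] S ⧸ (𝔎) ^ n := fun n =>
    (Ideal.quotientMapₐ ((𝔎) ^ n) (toS σ e) (map_pow_le σ e n)).comp
      ((AdicCompletion.evalₐ (𝔍) n).restrictScalars R)
  have hf : ∀ {m n : ℕ} (hle : m ≤ n),
      (Ideal.Quotient.factorₐ R (Ideal.pow_le_pow_right hle)).comp (f n) = f m := fun {m n} hle => by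
    refine AlgHom.ext fun x => ?_
    show Ideal.Quotient.factor (Ideal.pow_le_pow_right hle) (Ideal.quotientMapₐ ((𝔎) ^ n) (toS σ e) (map_pow_le σ e n)
      (AdicCompletion.evalₐ (𝔍) n x)) =
      Ideal.quotientMapₐ ((𝔎) ^ m) (toS σ e) (map_pow_le σ e m) (AdicCompletion.evalₐ (𝔍) m x)
    rw [← factor_evalₐ (𝔍) hle x]
    obtain ⟨q, hq⟩ := Ideal.Quotient.mk_surjective (AdicCompletion.evalₐ (𝔍) n x)
    rw [← hq]
    rfl
  let G := AdicCompletion.liftAlgHom (𝔎) f hf
  have hG : ∀ n x, AdicCompletion.evalₐ (𝔎) n (G x) =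
      Ideal.quotientMapₐ ((𝔎) ^ n) (toS σ e) (map_pow_le σ e n) (AdicCompletion.evalₐ (𝔍) n x) :=
    fun n x => AdicCompletion.evalₐ_liftAlgHom _ _ _ n x
  have hinj : Function.Injective G := by
    intro x y hxy
    refine AdicCompletion.ext_evalₐ fun n => ?_
    have h1 := congrArg (AdicCompletion.evalₐ (𝔎) n) hxy
    rw [hG, hG] at h1
    exact Ideal.quotientMap_injective' (H := map_pow_le σ e n) (comap_pow_le σ e n) h1
  have hsurj : Function.Surjective G := by
    intro y
    choose s hs using fun n => Ideal.Quotient.mk_surjective (AdicCompletion.evalₐ (𝔎) n y)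
    choose p hp using fun n => exists_preimage σ e n (s n)
    have hcauchy : AdicCompletion.IsAdicCauchy (𝔍) P p := fun {m n} hle => by
      rw [SModEq.sub_mem, smul_eq_mul, Ideal.mul_top]
      refine comap_pow_le σ e m ?_
      show toS σ e (p m - p n) ∈ (𝔎) ^ m
      have h1 : s n - s m ∈ (𝔎) ^ m := by
        rw [← Ideal.Quotient.eq, hs m, ← factor_evalₐ (𝔎) hle y, ← hs n, Ideal.Quotient.factor_mk]
      rw [map_sub, show toS σ e (p m) - toS σ e (p n) =
        (s n - toS σ e (p n)) - (s m - toS σ e (p m)) - (s n - s m) by ring]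
      exact sub_mem (sub_mem (Ideal.pow_le_pow_right hle (hp n)) (hp m)) h1
    refine ⟨AdicCompletion.mk (𝔍) P ⟨p, hcauchy⟩, AdicCompletion.ext_evalₐ fun n => ?_⟩
    rw [hG, AdicCompletion.evalₐ_mk, ← hs n]
    exact (Ideal.Quotient.eq.mpr (hp n)).symm
  exact ⟨((AlgEquiv.ofBijective G ⟨hinj, hsurj⟩).symm).trans
    ((MvPowerSeries.toAdicCompletionAlgEquiv (Fin d) R).symm.restrictScalars R)⟩

end L02.CAlg.SectionCompletion
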